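import Cfsg.Agent.Lib.GLC.Into
import Cfsg.Agent.Lib.GLC.Simul
import Cfsg.Agent.Lib.Unitary.ElusB

/-! Normalisers of absolutely irreducible subgroups of `GL`: generalities. -/

namespace Cfsg.Lib.C6
open Matrix Cfsg.Lib.GLC Cfsg.Lib.Unitary Cfsg.Geo
open scoped MatrixGroups

variable {ι F : Type*} [Fintype ι] [DecidableEq ι] [Field F]

/-- `g` is a scalar matrix. -/
def Sc (g : GL ι F) : Prop := ∃ c : F, g.1 = c • 1

/-- Only scalars commute with `R`. -/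
def Schur (R : Subgroup (GL ι F)) : Prop :=
  ∀ M : Matrix ι ι F, (∀ s ∈ R, M * s.1 = s.1 * M) → ∃ c : F, M = c • 1

variable {R : Subgroup (GL ι F)} {g x y : GL ι F}

theorem Sc.comm (h : Sc g) (x : GL ι F) : g * x = x * g := by
  obtain ⟨c, hc⟩ := h
  apply Units.ext
  rw [Units.val_mul, Units.val_mul, hc, smul_mul_assoc, mul_smul_comm, one_mul, mul_one]

theorem sc_one : Sc (1 : GL ι F) := ⟨1, by simp⟩

theorem Sc.conj (h : Sc g) (x : GL ι F) : x⁻¹ * g * x = g := by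
  rw [mul_assoc, h.comm, inv_mul_cancel_left]

theorem sc_conj_iff : Sc (x⁻¹ * g * x) ↔ Sc g := by
  refine ⟨fun h => ?_, fun h => by rwa [h.conj]⟩
  have := h.conj x⁻¹
  rw [inv_inv, show x * (x⁻¹ * g * x) * x⁻¹ = g by group] at this
  rwa [this]

theorem Sc.mul (h : Sc g) (h' : Sc x) : Sc (g * x) := by
  obtain ⟨c, hc⟩ := h
  obtain ⟨d, hd⟩ := h'
  exact ⟨c * d, by rw [Units.val_mul, hc, hd, smul_mul_assoc, one_mul, smul_smul]⟩

theorem Sc.pow (h : Sc g) (k : ℕ) : Sc (g ^ k) := by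
  induction k with
  | zero => simpa using sc_one
  | succ k ih => rw [pow_succ]; exact ih.mul h

theorem ne_zero_of_eq_smul [Nonempty ι] {c : F} {M : Matrix ι ι F} (h : g.1 = c • M) : c ≠ 0 := by
  rintro rfl
  exact g.ne_zero (by rw [h, zero_smul])

theorem Sc.inv (h : Sc g) : Sc g⁻¹ := by
  rcases isEmpty_or_nonempty ι with _ | _
  · exact ⟨1, Subsingleton.elim _ _⟩
  obtain ⟨c, hc⟩ := h
  have h0 := ne_zero_of_eq_smul hc
  refine ⟨c⁻¹, ?_⟩
  have := g.inv_mul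
  rw [hc, mul_smul_comm, mul_one] at this
  rw [← this, smul_smul, inv_mul_cancel₀ h0, one_smul]

theorem smul_one_inj [Nonempty ι] {c d : F} (h : c • (1 : Matrix ι ι F) = d • 1) : c = d := by
  obtain ⟨i⟩ := ‹Nonempty ι›
  simpa using congrFun (congrFun h i) i

theorem not_sc_iff : ¬ Sc g ↔ ∀ z : F, g.1 ≠ z • 1 := not_exists

theorem Schur.sc (hS : Schur R) (h : ∀ s ∈ R, g * s = s * g) : Sc g :=
  hS g.1 fun s hs => congrArg Units.val (h s hs)

theorem schur_of_absIrr {ι : Type} [Fintype ι] [DecidableEq ι] {R : Subgroup (GL ι F)}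
    (h : ActsAbsolutelyIrreducibly (matrixSet R)) : Schur R :=
  fun M hM => h.2 M (by rintro _ ⟨s, hs, rfl⟩; exact hM s hs)

theorem mem_center_iff (hS : Schur R) {s : R} : s ∈ Subgroup.center R ↔ Sc s.1 := by
  rw [Subgroup.mem_center_iff]
  exact ⟨fun h => hS.sc fun t ht => (congrArg Subtype.val (h ⟨t, ht⟩)).symm,
    fun h t => Subtype.ext (h.comm _).symm⟩

theorem mem_normalizer [Finite R] (h : ∀ s ∈ R, y * s * y⁻¹ ∈ R) :
    y ∈ Subgroup.normalizer (R : Set (GL ι F)) :=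
  Subgroup.mem_normalizer_fintype h

theorem conj_mem (hy : y ∈ Subgroup.normalizer (R : Set (GL ι F))) {s : GL ι F} (hs : s ∈ R) :
    y * s * y⁻¹ ∈ R := (Subgroup.mem_normalizer_iff.1 hy s).1 hs

theorem Sc.mem_normalizer (h : Sc g) : g ∈ Subgroup.normalizer (R : Set (GL ι F)) :=
  Subgroup.mem_normalizer_iff.2 fun s => by rw [h.comm, mul_inv_cancel_right]

theorem mem_normalizer_of_smul (hy : y ∈ Subgroup.normalizer (R : Set (GL ι F))) {c : F}
    (h : x.1 = c • y.1) : x ∈ Subgroup.normalizer (R : Set (GL ι F)) := by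
  have : Sc (x * y⁻¹) := ⟨c, by rw [Units.val_mul, h, smul_mul_assoc, Units.mul_inv]⟩
  simpa using mul_mem this.mem_normalizer hy

/-- Scalar multiples in `GL`. -/
def smulGL (c : F) (hc : c ≠ 0) (g : GL ι F) : GL ι F :=
  ⟨c • g.1, c⁻¹ • (g⁻¹).1,
    by rw [smul_mul_smul_comm, mul_inv_cancel₀ hc, Units.mul_inv, one_smul],
    by rw [smul_mul_smul_comm, inv_mul_cancel₀ hc, Units.inv_mul, one_smul]⟩

@[simp] theorem smulGL_coe {c : F} (hc : c ≠ 0) (g : GL ι F) : (smulGL c hc g).1 = c • g.1 := rfl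

theorem card_modEq [Finite R] (hy : y ∈ Subgroup.normalizer (R : Set (GL ι F))) {r : ℕ}
    [Fact r.Prime] (hr : Sc (y ^ r)) :
    Nat.card R ≡ Nat.card ↥(R ⊓ Subgroup.centralizer {y}) [MOD r] := by
  classical
  haveI := Fintype.ofFinite R
  let f : Function.End R := fun s => ⟨y * s.1 * y⁻¹, conj_mem hy s.2⟩
  have hk : ∀ (k : ℕ) (s : R), ((f ^ k) s).1 = y ^ k * s.1 * (y ^ k)⁻¹ := by
    intro k
    induction k with
    | zero => intro s; simp [Function.End.one_def]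
    | succ k ih =>
      intro s
      rw [pow_succ', pow_succ']
      change y * ((f ^ k) s).1 * y⁻¹ = _
      rw [ih]; group
  have hf : f ^ r ^ 1 = 1 := by
    funext s
    apply Subtype.ext
    rw [pow_one, hk, hr.comm, mul_inv_cancel_right]; rfl
  have := Equiv.Perm.card_fixedPoints_modEq hf
  rw [Nat.card_eq_fintype_card]
  refine this.trans ?_
  rw [← Nat.card_eq_fintype_card]
  refine Eq.subst (motive := fun t => _ ≡ t [MOD r]) (Nat.card_congr ?_) Nat.ModEq.rfl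
  exact
    { toFun := fun s => ⟨s.1.1, s.1.2, Subgroup.mem_centralizer_singleton_iff.2
        (mul_inv_eq_iff_eq_mul.1 (congrArg Subtype.val s.2)).symm⟩
      invFun := fun s => ⟨⟨s.1, s.2.1⟩, Subtype.ext (mul_inv_eq_iff_eq_mul.2
        (Subgroup.mem_centralizer_singleton_iff.1 s.2.2).symm)⟩
      left_inv := fun _ => rfl
      right_inv := fun _ => rfl }

theorem card_center_dvd [Finite R] (hS : Schur R) (y : GL ι F) :
    Nat.card (Subgroup.center R) ∣ Nat.card ↥(R ⊓ Subgroup.centralizer {y}) := by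
  rw [← Subgroup.card_map_of_injective R.subtype_injective]
  refine Subgroup.card_dvd_of_le ?_
  rintro _ ⟨s, hs, rfl⟩
  exact ⟨s.2, Subgroup.mem_centralizer_singleton_iff.2 (((mem_center_iff hS).1 hs).comm y)⟩

theorem card_cent_lt [Finite R] (hS : Schur R) (hy : ¬ Sc y) :
    Nat.card ↥(R ⊓ Subgroup.centralizer {y}) < Nat.card R := by
  by_contra h
  have := Subgroup.eq_of_le_of_card_ge (inf_le_left : R ⊓ Subgroup.centralizer {y} ≤ R)
    (not_lt.1 h)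
  exact hy (hS.sc fun s hs =>
    (Subgroup.mem_centralizer_singleton_iff.1 (this.ge hs).2).symm)

theorem exists_pow_eq_one {G : Subgroup (GL ι F)} [Finite G] {r : ℕ} [Fact r.Prime]
    (h : r ∣ Nat.card G) : ∃ x ∈ G, x ^ r = 1 ∧ x ≠ 1 := by
  obtain ⟨x, hx⟩ := exists_prime_orderOf_dvd_card' r h
  refine ⟨x.1, x.2, ?_, fun h1 => ?_⟩
  · rw [← hx]; exact congrArg Subtype.val (pow_orderOf_eq_one x)
  · rw [show x = 1 from Subtype.ext h1, orderOf_one] at hx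
    exact (Fact.out : r.Prime).one_lt.ne hx

theorem not_sc_of_coprime [Nonempty ι] {r : ℕ} (h1 : x ^ r = 1) (hx : x ≠ 1) (hd : x.1.det = 1)
    (hr : r.Coprime (Fintype.card ι)) : ¬ Sc x := by
  rintro ⟨c, hc⟩
  have e1 : c ^ r = 1 := smul_one_inj (ι := ι) (by
    rw [← one_pow r, ← smul_pow, ← hc, ← Units.val_pow_eq_pow_val, h1, one_pow, one_smul]; rfl)
  rw [hc, det_smul, det_one, mul_one] at hd
  have := pow_gcd_eq_one.2 ⟨e1, hd⟩
  rw [hr, pow_one] at this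
  exact hx (Units.ext (by rw [hc, this, one_smul]; rfl))

theorem sim_conj (g x : GL ι F) : Sim (toLin' (g * x * g⁻¹).1) (toLin' x.1) :=
  gl_isConj_iff_sim.1 (isConj_iff.2 ⟨g, rfl⟩).symm

theorem detC_top [Finite F] [Nonempty ι] {r : ℕ} [Fact r.Prime] (hr : (r : F) ≠ 0)
    (hx : Sc (x ^ r)) : detC (toLin' x.1) = ⊤ := by
  obtain ⟨z, hz⟩ := hx
  exact detC_eq_top_of_pow (r := r) (Or.inl hr) (isUnit_toLin'_gl x) (z := z)
    (by rw [← toLin'_pow', toLin'_eq_smul_one_iff, ← hz, Units.val_pow_eq_pow_val])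

theorem exists_sl_conj {ι : Type} [Fintype ι] [DecidableEq ι] [Finite F] [Nonempty ι]
    {x h : GL ι F} {r : ℕ} [Fact r.Prime] (hr : (r : F) ≠ 0) (hx : Sc (x ^ r))
    (hs : Sim (toLin' h.1) (toLin' x.1)) : ∃ g ∈ specialLinear ι F, g⁻¹ * x * g = h := by
  obtain ⟨g, rfl⟩ := isConj_iff.1 (gl_isConj_iff_sim.2 hs.symm)
  obtain ⟨k, hk, e⟩ := (exists_det_one_conj_iff (x := x) (g := g)).2
    (by rw [detC_top hr hx]; trivial)
  exact ⟨k⁻¹, inv_mem hk, by rw [inv_inv, e]⟩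

variable {q : ℕ} {σ : F →+* F}

theorem exists_su_conj (hσ : IsBar q σ) {n : ℕ} [NeZero n] {x h : GL (Fin n) F} {r : ℕ}
    [Fact r.Prime] (hr : (r : F) ≠ 0) (hx : Sc (x ^ r)) (hxU : x ∈ GU n F q) (hh : h ∈ GU n F q)
    (hs : Sim (toLin' h.1) (toLin' x.1)) :
    ∃ g ∈ GU n F q ⊓ specialLinear (Fin n) F, g⁻¹ * x * g = h := by
  haveI := hσ.finite
  obtain ⟨g, hg⟩ := isConj_iff.1 (gl_isConj_iff_sim.2 hs.symm)
  obtain ⟨y, hy, e⟩ := hσ.exists_unitary_conj (hσ.mem_GU_ct.1 hxU) (hσ.mem_GU_ct.1 hh) hg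
  have hn : y.1.det * σ y.1.det = 1 := by
    rw [← det_ct, ← ctGL_coe, hy, ← det_mul, Units.mul_inv, det_one]
  obtain ⟨d, hd, hd'⟩ := hσ.exists_div_eq hn
  have h0 : y.1.det ≠ 0 := left_ne_zero_of_mul_eq_one hn
  obtain ⟨w, hw, hc, hw'⟩ := (hσ.exists_unitary_det_iff (hσ.mem_GU_ct.1 hxU)
    (z := (y.1.det)⁻¹)).2 ⟨Units.mk0 d hd, by rw [detC_top hr hx]; trivial, by
      simp only [Units.val_mk0, hd']; field_simp⟩
  refine ⟨(y * w)⁻¹, inv_mem ⟨mul_mem (hσ.mem_GU_ct.2 hy) (hσ.mem_GU_ct.2 hw), ?_⟩, ?_⟩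
  · exact mem_sl_iff.2 (by rw [Units.val_mul, det_mul, hw', mul_inv_cancel₀ h0])
  · rw [inv_inv, ← e, mul_assoc y w, hc.eq]; group

theorem ct_mul_self (hS : Schur R) (hR : ∀ s ∈ R, ctGL σ s = s⁻¹)
    (hy : y ∈ Subgroup.normalizer (R : Set (GL ι F))) : Sc (ctGL σ y * y) := by
  refine hS.sc fun s hs => ?_
  have := hR _ (conj_mem hy (inv_mem hs))
  rw [ctGL_mul, ctGL_mul, ctGL_inv, hR _ (inv_mem hs)] at this
  calc ctGL σ y * y * s = ctGL σ y * (y * s⁻¹ * y⁻¹)⁻¹ * y := by group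
    _ = _ := by rw [← this]; group

/-- Diagonalisation of an element with `x ^ r = c ^ r`. -/
theorem exists_diag_sim [Finite F] {r : ℕ} (hr : r ∣ Nat.card F - 1) {c : F} (hc : c ≠ 0)
    {M : Matrix ι ι F} (h : M ^ r = c ^ r • 1) :
    ∃ v : ι → F, (∀ i, v i ^ r = c ^ r) ∧ Sim (toLin' (diagonal v)) (toLin' M) := by
  have h' : toLin' M ^ r = c ^ r • 1 := by rw [← toLin'_pow', toLin'_eq_smul_one_iff, h]
  obtain ⟨N, hN⟩ := exists_lt_of_pow hr hc h'
  obtain ⟨v, rfl⟩ := exists_univ_map_eq (n := ι) N (by rw [hN.lt_card]; simp)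
  exact ⟨v, fun i => hN.lt_pow_eq_iff.1 h' _ (by simp), (blocks_diagonal v).sim hN⟩

end Cfsg.Lib.C6
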