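import Cfsg.Agent.Lib.C6.Two

/-! Absolutely irreducible 2-groups of symplectic type in dimension 4: a symplectic basis and
explicit elements of orders 2, 3, 5 of the normaliser. -/

namespace Cfsg.Lib.C6
open Matrix Cfsg.Lib.GLC Cfsg.Geo
open scoped MatrixGroups

section alg
variable {M : Type*} [Ring M] {A B C D : M}

theorem quat_sq (hA : A * A = -1) (hB : B * B = -1) (h : B * A = -(A * B)) :
    (1 + A) * (1 + B) * ((1 + A) * (1 + B)) = 2 • ((1 + A) * (1 + B)) - 4 • 1 := by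
  have hA' : ∀ x, A * (A * x) = -x := fun x => by rw [← mul_assoc, hA, neg_one_mul]
  have h' : ∀ x, B * (A * x) = -(A * (B * x)) := fun x => by rw [← mul_assoc, h, neg_mul, mul_assoc]
  simp only [mul_add, add_mul, mul_assoc, one_mul, mul_one, hA, hB, h, hA', h', mul_neg, neg_neg]
  abel

theorem path_facts (hA : A * A = -1) (hB : B * B = -1) (hC : C * C = -1) (hD : D * D = -1)
    (ba : B * A = -(A * B)) (cb : C * B = -(B * C)) (dc : D * C = -(C * D)) (ca : C * A = A * C)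
    (da : D * A = A * D) (db : D * B = B * D) :
    ∃ G, (1 + A) * (1 + B) * ((1 + C) * (1 + D)) + (1 - D) * (1 - C) * ((1 - B) * (1 - A)) =
      2 • (1 + G) ∧ G * G = 5 • 1 ∧
      (1 + A) * (1 + B) * ((1 + C) * (1 + D)) * A = B * ((1 + A) * (1 + B) * ((1 + C) * (1 + D))) := by
  have s : ∀ {X : M}, X * X = -1 → ∀ x, X * (X * x) = -x := fun h x => by
    rw [← mul_assoc, h, neg_one_mul]
  have a : ∀ {X Y : M}, Y * X = -(X * Y) → ∀ x, Y * (X * x) = -(X * (Y * x)) := fun h x => by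
    rw [← mul_assoc, h, neg_mul, mul_assoc]
  have c : ∀ {X Y : M}, Y * X = X * Y → ∀ x, Y * (X * x) = X * (Y * x) := fun h x => by
    rw [← mul_assoc, h, mul_assoc]
  refine ⟨A * C + A * D + B * D + A * (B * D) + A * (C * D), ?_, ?_, ?_⟩ <;>
    simp only [mul_add, add_mul, mul_sub, sub_mul, mul_assoc, one_mul, mul_one, hA, hB, hC, hD, ba,
      cb, dc, ca, da, db, s hA, s hB, s hC, s hD, a ba, a cb, a dc, c ca, c da, c db, mul_neg,
      neg_mul, neg_neg] <;> abel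

theorem pow_five_of {y y' : M} (h1 : y * y' = 1) (h2 : y' * y = 1)
    (h : (y + y') * (y + y') = y + y' + 1) : (-y) ^ 5 = 1 := by
  have h1' : ∀ x, y * (y' * x) = x := fun x => by rw [← mul_assoc, h1, one_mul]
  have e := congrArg (fun t => (y + 1) * (y * (y * t))) h
  simp only [mul_add, add_mul, mul_assoc, one_mul, mul_one, h1, h2, h1'] at e
  simp only [pow_succ, pow_zero, one_mul, mul_neg, neg_mul, neg_neg, mul_assoc]
  rw [← sub_eq_zero] at e ⊢
  rw [← neg_eq_zero, ← e]; abel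

end alg

variable {ι F : Type*} [Fintype ι] [DecidableEq ι] [Field F]

/-- An adjoint operation for which `R` consists of isometries. -/
structure Adj (R : Subgroup (GL ι F)) (τ : Matrix ι ι F →+ Matrix ι ι F) : Prop where
  mul : ∀ M N, τ (M * N) = τ N * τ M
  mem : ∀ s ∈ R, τ s.1 * s.1 = 1

/-- Normalises `R` and preserves every form preserved by `R`. -/
def Good (R : Subgroup (GL ι F)) (g : GL ι F) : Prop :=
  g ∈ Subgroup.normalizer (R : Set (GL ι F)) ∧ ∀ τ, Adj R τ → τ g.1 * g.1 = 1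

variable {R : Subgroup (GL ι F)} {s t g y a b c d j : GL ι F} {τ : Matrix ι ι F →+ Matrix ι ι F}

theorem Adj.one (h : Adj R τ) : τ 1 = 1 := by simpa using h.mem 1 (one_mem R)

theorem Adj.half (h2 : (2 : F) ≠ 0) (M : Matrix ι ι F) :
    τ ((2 : F)⁻¹ • M) = (2 : F)⁻¹ • τ M := by
  have : M = (2 : F)⁻¹ • M + (2 : F)⁻¹ • M := by
    rw [← two_smul F, smul_smul, mul_inv_cancel₀ h2, one_smul]
  conv_rhs => rw [this, map_add, ← two_smul F, smul_smul, inv_mul_cancel₀ h2, one_smul]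

theorem Adj.eq (h : Adj R τ) (hs : s ∈ R) {M : Matrix ι ι F} (e : s.1 * M = 1) : τ s.1 = M := by
  rw [← mul_one (τ s.1), ← e, ← mul_assoc, h.mem s hs, one_mul]

theorem Good.of_mem (hs : s ∈ R) : Good R s := ⟨Subgroup.le_normalizer hs, fun _ h => h.mem s hs⟩

theorem Good.mul (h : Good R s) (h' : Good R t) : Good R (s * t) :=
  ⟨mul_mem h.1 h'.1, fun τ hτ => by
    rw [Units.val_mul, hτ.mul, mul_assoc, ← mul_assoc (τ s.1), h.2 τ hτ, one_mul, h'.2 τ hτ]⟩

theorem Good.neg (h : Good R s) : Good R (-s) :=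
  ⟨mem_normalizer_of_smul h.1 (c := -1) (by simp), fun τ hτ => by simpa using h.2 τ hτ⟩

/-- `1 + s` for `s² = -1`. -/
def T (h2 : (2 : F) ≠ 0) (s : GL ι F) (hs : s.1 * s.1 = -1) : GL ι F :=
  ⟨1 + s.1, (2 : F)⁻¹ • (1 - s.1), by
    rw [mul_smul_comm, add_mul, mul_sub, mul_sub, hs, one_mul, one_mul, mul_one]
    match_scalars <;> field_simp <;> norm_num, by
    rw [smul_mul_assoc, mul_add, sub_mul, sub_mul, hs, one_mul, one_mul, mul_one]
    match_scalars <;> field_simp <;> norm_num⟩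

/-- Two commuting anticommuting pairs. -/
structure B4 (R : Subgroup (GL ι F)) (a b c d : GL ι F) : Prop where
  ma : a ∈ R
  mb : b ∈ R
  mc : c ∈ R
  md : d ∈ R
  ba : b.1 * a.1 = -(a.1 * b.1)
  dc : d.1 * c.1 = -(c.1 * d.1)
  ca : c.1 * a.1 = a.1 * c.1
  da : d.1 * a.1 = a.1 * d.1
  cb : c.1 * b.1 = b.1 * c.1
  db : d.1 * b.1 = b.1 * d.1

/-- `D₈ ∘ Q₈` generators. -/
structure Q4 (R : Subgroup (GL ι F)) (a b c d : GL ι F) : Prop extends B4 R a b c d where
  aa : a.1 * a.1 = 1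
  bb : b.1 * b.1 = 1
  cc : c.1 * c.1 = -1
  dd : d.1 * d.1 = -1

theorem B4.swap (h : B4 R a b c d) : B4 R c d a b :=
  ⟨h.mc, h.md, h.ma, h.mb, h.dc, h.ba, h.ca.symm, h.cb.symm, h.da.symm, h.db.symm⟩

theorem B4.swap' (h : B4 R a b c d) : B4 R b a c d :=
  ⟨h.mb, h.ma, h.mc, h.md, by rw [h.ba, neg_neg], h.dc, h.cb, h.db, h.ca, h.da⟩

theorem B4.mul (h : B4 R a b c d) : B4 R a (a * b) c d :=
  ⟨h.ma, mul_mem h.ma h.mb, h.mc, h.md, by rw [Units.val_mul, mul_assoc, h.ba, mul_neg], h.dc, h.ca,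
    h.da, by rw [Units.val_mul, ← mul_assoc, h.ca, mul_assoc, h.cb, mul_assoc],
    by rw [Units.val_mul, ← mul_assoc, h.da, mul_assoc, h.db, mul_assoc]⟩

theorem B4.mul_sq (h : B4 R a b c d) :
    (a * b).1 * (a * b).1 = -(a.1 * a.1 * (b.1 * b.1)) := by
  rw [Units.val_mul, mul_assoc, ← mul_assoc b.1, h.ba]; simp only [mul_assoc, neg_mul, mul_neg]

theorem B4.smul (h : B4 R a b c d) (hj : j ∈ R) {i : F} (e : j.1 = i • 1) :
    B4 R (j * a) (j * b) c d := by
  refine ⟨mul_mem hj h.ma, mul_mem hj h.mb, h.mc, h.md, ?_, h.dc, ?_, ?_, ?_, ?_⟩ <;>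
    simp [e, h.ba, h.ca, h.da, h.cb, h.db]

theorem smul_sq {i : F} (e : j.1 = i • 1) (hi : i * i = -1) (a : GL ι F) :
    (j * a).1 * (j * a).1 = -(a.1 * a.1) := by
  simp [e, smul_smul, hi]

/-- No elementary abelian subgroup of order 8. -/
def Minus (R : Subgroup (GL ι F)) : Prop :=
  ∀ s ∈ R, ∀ t ∈ R, s.1 * s.1 = 1 → t.1 * t.1 = 1 → s.1 * t.1 = t.1 * s.1 →
    Sc s ∨ Sc t ∨ Sc (s * t)

namespace St
variable (h : St R)
include h

theorem T_mem (hs : s ∈ R) (e : s.1 * s.1 = -1) :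
    T h.two s e ∈ Subgroup.normalizer (R : Set (GL ι F)) := by
  haveI := h.fin
  refine mem_normalizer fun t ht => ?_
  rcases h.comm_or hs ht with h1 | h1
  · rwa [mul_inv_eq_iff_eq_mul.2 (show T h.two s e * t = t * T h.two s e from Units.ext (by
      simp [T, mul_add, add_mul, h1]))]
  · rw [mul_inv_eq_iff_eq_mul.2 (show T h.two s e * t = (s * t) * T h.two s e from Units.ext (by
      simp only [T, Units.val_mul, mul_add, add_mul, one_mul, mul_one]
      rw [add_comm, mul_assoc, ← neg_neg (t.1 * s.1), ← h1, mul_neg, ← mul_assoc, e]; simp))]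
    exact mul_mem hs ht

theorem exists_TT (hs : s ∈ R) (ht : t ∈ R) (e : s.1 * s.1 = -1) (e' : t.1 * t.1 = -1) :
    ∃ g : GL ι F, g.1 = (2 : F)⁻¹ • ((1 + s.1) * (1 + t.1)) ∧
      (g⁻¹).1 = (2 : F)⁻¹ • ((1 - t.1) * (1 - s.1)) ∧ Good R g := by
  have h2 := h.two
  have e1 : ((smulGL 2⁻¹ (inv_ne_zero h2) (T h2 s e * T h2 t e'))⁻¹).1 =
      (2 : F)⁻¹ • ((1 - t.1) * (1 - s.1)) := by
    change (2 : F)⁻¹⁻¹ • (((2 : F)⁻¹ • (1 - t.1)) * ((2 : F)⁻¹ • (1 - s.1))) = _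
    rw [smul_mul_smul_comm, smul_smul, inv_inv, mul_inv_cancel_left₀ h2]
  refine ⟨smulGL 2⁻¹ (inv_ne_zero h2) (T h2 s e * T h2 t e'), rfl, e1,
    mem_normalizer_of_smul (mul_mem (h.T_mem hs e) (h.T_mem ht e')) rfl, fun τ hτ => ?_⟩
  rw [← Units.inv_mul (smulGL 2⁻¹ (inv_ne_zero h2) (T h2 s e * T h2 t e')), e1]
  congr 1
  change τ ((2 : F)⁻¹ • ((1 + s.1) * (1 + t.1))) = _
  rw [Adj.half h2, hτ.mul, map_add, map_add, hτ.one, hτ.eq hs (M := -s.1) (by simp [e]),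
    hτ.eq ht (M := -t.1) (by simp [e']), sub_eq_add_neg, sub_eq_add_neg]

theorem trace_TT (ts : t.1 * s.1 = -(s.1 * t.1)) {M : Matrix ι ι F} (h1 : s.1 * M = M * s.1)
    (h2 : t.1 * M = M * t.1) : ((1 + s.1) * (1 + t.1) * M).trace = M.trace := by
  have e1 : (s.1 * M).trace = 0 := trace_eq_zero_of_anti h.two (s := t) (by
    rw [← mul_assoc, ts, neg_mul, mul_assoc, h2, mul_assoc])
  have e2 : (t.1 * M).trace = 0 := trace_eq_zero_of_anti h.two (s := s) (by
    rw [mul_assoc, ← h1, ← mul_assoc t.1, ts, neg_mul, neg_neg, mul_assoc])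
  have e3 : (s.1 * (t.1 * M)).trace = 0 := trace_eq_zero_of_anti h.two (s := s) (by
    rw [mul_assoc, mul_assoc, ← h1, ← mul_assoc t.1, ts, neg_mul, mul_neg, neg_neg, mul_assoc])
  simp only [mul_add, add_mul, one_mul, mul_one, mul_assoc, trace_add, e1, e2, e3, add_zero]

/-- The element of order 3 normalising a quaternion subgroup. -/
theorem exists_u (hs : s ∈ R) (ht : t ∈ R) (e : s.1 * s.1 = -1) (e' : t.1 * t.1 = -1)
    (ts : t.1 * s.1 = -(s.1 * t.1)) : ∃ u : GL ι F, Good R u ∧ u.1 * u.1 + u.1 + 1 = 0 ∧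
      (∀ M, s.1 * M = M * s.1 → t.1 * M = M * t.1 →
        u.1 * M = M * u.1 ∧ 2 * (u.1 * M).trace = -M.trace) := by
  obtain ⟨g, h1, -, h2⟩ := h.exists_TT hs ht e e'
  have h0 := h.two
  refine ⟨-g, h2.neg, ?_, fun M m1 m2 => ⟨?_, ?_⟩⟩
  · rw [Units.val_neg, neg_mul_neg, h1, smul_mul_smul_comm, quat_sq e e' ts]
    match_scalars <;> field_simp <;> norm_num
  · simp only [Units.val_neg, h1, neg_mul, mul_neg, smul_mul_assoc, mul_smul_comm, mul_add, add_mul,
      one_mul, mul_one, mul_assoc, m1, m2]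
    rw [← mul_assoc s.1, m1, mul_assoc]
  · rw [Units.val_neg, h1, neg_mul, smul_mul_assoc, trace_neg, trace_smul, h.trace_TT ts m1 m2]
    simp [h0]

theorem exists_b4 (hc : 4 * Nat.card (Subgroup.center R) < Nat.card R) :
    ∃ a b c d, B4 R a b c d := by
  haveI := h.fin
  have key : ∀ K : Subgroup (GL ι F), K.relIndex R ≠ 0 → K.relIndex R ≤ 4 →
      ∃ s ∈ R, s ∈ K ∧ ¬ Sc s := by
    intro K h0 h4
    by_contra! h1
    have e1 := Subgroup.card_le_of_le (show K.subgroupOf R ≤ Subgroup.center R from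
      fun s hs => (mem_center_iff h.schur).2 (h1 _ s.2 hs))
    have e2 := (K.subgroupOf R).card_mul_index
    change _ * K.relIndex R = _ at e2
    nlinarith
  obtain ⟨a, ha, -, ha'⟩ := key ⊤ (by simp) (by simp)
  obtain ⟨b, hb, ba⟩ := h.exists_anti ha ha'
  have hb' : ¬ Sc b := h.not_sc_of_anti (t := a) (by rw [ba, neg_neg])
  have i1 := h.relIndex_cent ha ha'
  have i2 := h.relIndex_cent hb hb'
  obtain ⟨c, hc, ⟨ca, cb⟩, hc'⟩ := key (Subgroup.centralizer {a} ⊓ Subgroup.centralizer {b})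
    (Subgroup.relIndex_inf_ne_zero (by omega) (by omega))
    (Subgroup.relIndex_inf_le.trans (by rw [i1, i2]))
  replace ca := congrArg Units.val (Subgroup.mem_centralizer_singleton_iff.1 ca)
  replace cb := congrArg Units.val (Subgroup.mem_centralizer_singleton_iff.1 cb)
  rw [Units.val_mul, Units.val_mul] at ca cb
  obtain ⟨d, hd, dc⟩ := h.exists_anti hc hc'
  have a' : ∀ {X Y : Matrix ι ι F}, Y * X = -(X * Y) → ∀ x, Y * (X * x) = -(X * (Y * x)) :=
    fun h x => by rw [← mul_assoc, h, neg_mul, mul_assoc]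
  have c' : ∀ {X Y : Matrix ι ι F}, Y * X = X * Y → ∀ x, Y * (X * x) = X * (Y * x) :=
    fun h x => by rw [← mul_assoc, h, mul_assoc]
  rcases h.comm_or hd ha with da | da <;> rcases h.comm_or hd hb with db | db
  · exact ⟨a, b, c, d, ha, hb, hc, hd, ba, dc, ca, da, cb, db⟩
  · refine ⟨a, b, c, a * d, ha, hb, hc, mul_mem ha hd, ba, ?_, ca, ?_, cb, ?_⟩ <;>
      simp only [Units.val_mul, mul_assoc, dc, da, db, c' ca, a' ba, mul_neg]
  · refine ⟨a, b, c, b * d, ha, hb, hc, mul_mem hb hd, ba, ?_, ca, ?_, cb, ?_⟩ <;>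
      simp only [Units.val_mul, mul_assoc, dc, da, db, c' cb, a' ba, mul_neg, neg_neg]
  · refine ⟨a, b, c, a * (b * d), ha, hb, hc, mul_mem ha (mul_mem hb hd), ba, ?_, ca, ?_, cb,
      ?_⟩ <;>
      simp only [Units.val_mul, mul_assoc, dc, da, db, c' ca, c' cb, a' ba, mul_neg, neg_neg]

theorem norm_pair (H : B4 R a b c d) : ∃ a b, B4 R a b c d ∧
    (a.1 * a.1 = 1 ∧ b.1 * b.1 = 1 ∨ a.1 * a.1 = -1 ∧ b.1 * b.1 = -1) := by
  rcases h.sq a H.ma with h1 | h1 <;> rcases h.sq b H.mb with h2 | h2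
  · exact ⟨a, b, H, .inl ⟨h1, h2⟩⟩
  · exact ⟨a, a * b, H.mul, .inl ⟨h1, by rw [H.mul_sq, h1, h2]; simp⟩⟩
  · exact ⟨b, b * a, H.swap'.mul, .inl ⟨h2, by rw [H.swap'.mul_sq, h1, h2]; simp⟩⟩
  · exact ⟨a, b, H, .inr ⟨h1, h2⟩⟩

theorem exists_q4_of_i (hc : 4 * Nat.card (Subgroup.center R) < Nat.card R) (hj : j ∈ R) {i : F}
    (e : j.1 = i • 1) (hi : i * i = -1) : ∃ a b c d, Q4 R a b c d := by
  obtain ⟨a, b, c, d, H⟩ := h.exists_b4 hc
  obtain ⟨a, b, H, h1⟩ := h.norm_pair H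
  obtain ⟨a, b, H, h1, h2⟩ : ∃ a b, B4 R a b c d ∧ a.1 * a.1 = 1 ∧ b.1 * b.1 = 1 := by
    rcases h1 with h1 | h1
    · exact ⟨a, b, H, h1⟩
    · exact ⟨_, _, H.smul hj e, by rw [smul_sq e hi, h1.1, neg_neg],
        by rw [smul_sq e hi, h1.2, neg_neg]⟩
  obtain ⟨c, d, H, h3⟩ := h.norm_pair H.swap
  rcases h3 with h3 | h3
  · exact ⟨_, _, _, _, (H.smul hj e).swap, h1, h2, by rw [smul_sq e hi, h3.1],
      by rw [smul_sq e hi, h3.2]⟩
  · exact ⟨_, _, _, _, H.swap, h1, h2, h3.1, h3.2⟩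

theorem exists_q4_of_minus (hc : 4 * Nat.card (Subgroup.center R) < Nat.card R) (hm : Minus R) :
    ∃ a b c d, Q4 R a b c d := by
  obtain ⟨a, b, c, d, H⟩ := h.exists_b4 hc
  obtain ⟨a, b, H, h1⟩ := h.norm_pair H
  obtain ⟨c, d, H, h3⟩ := h.norm_pair H.swap
  have a' : ∀ {X Y : Matrix ι ι F}, Y * X = -(X * Y) → ∀ x, Y * (X * x) = -(X * (Y * x)) :=
    fun h x => by rw [← mul_assoc, h, neg_mul, mul_assoc]
  have c' : ∀ {X Y : Matrix ι ι F}, Y * X = X * Y → ∀ x, Y * (X * x) = X * (Y * x) :=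
    fun h x => by rw [← mul_assoc, h, mul_assoc]
  have s' : ∀ {X : Matrix ι ι F}, X * X = -1 → ∀ x, X * (X * x) = -x := fun h x => by
    rw [← mul_assoc, h, neg_one_mul]
  rcases h1 with h1 | h1 <;> rcases h3 with h3 | h3
  · rcases hm c H.ma a H.mc h3.1 h1.1 H.ca.symm with e | e | e
    · exact absurd e (h.not_sc_of_anti H.ba)
    · exact absurd e (h.not_sc_of_anti H.dc)
    · exact absurd e (h.not_sc_of_anti (t := d) (by
        simp only [Units.val_mul, mul_assoc, a' H.ba, H.cb]))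
  · exact ⟨_, _, _, _, H.swap, h1.1, h1.2, h3.1, h3.2⟩
  · exact ⟨_, _, _, _, H, h3.1, h3.2, h1.1, h1.2⟩
  · rcases hm (c * a) (mul_mem H.ma H.mc) (d * b) (mul_mem H.mb H.md)
      (by simp only [Units.val_mul, mul_assoc, c' H.ca, s' h3.1, h1.1, neg_neg])
      (by simp only [Units.val_mul, mul_assoc, c' H.db, s' h3.2, h1.2, neg_neg])
      (by simp only [Units.val_mul, mul_assoc, c' H.cb, c' H.da, a' H.ba, H.dc, mul_neg, neg_neg])
      with e | e | e
    · exact absurd e (h.not_sc_of_anti (t := d) (by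
        simp only [Units.val_mul, mul_assoc, a' H.ba, H.cb]))
    · exact absurd e (h.not_sc_of_anti (t := c) (by
        simp only [Units.val_mul, mul_assoc, a' H.ba, H.da, neg_neg]))
    · exact absurd e (h.not_sc_of_anti (t := c) (by
        simp only [Units.val_mul, mul_assoc, a' H.ba, H.da, c' H.ca, neg_neg, mul_neg]))

/-- An element of order 5. -/
theorem exists_five (H : Q4 R a b c d) : ∃ y, Good R y ∧ y ^ 5 = 1 ∧ y ≠ 1 := by
  have h0 := h.two
  have a' : ∀ {X Y : Matrix ι ι F}, Y * X = -(X * Y) → ∀ x, Y * (X * x) = -(X * (Y * x)) :=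
    fun h x => by rw [← mul_assoc, h, neg_mul, mul_assoc]
  have c' : ∀ {X Y : Matrix ι ι F}, Y * X = X * Y → ∀ x, Y * (X * x) = X * (Y * x) :=
    fun h x => by rw [← mul_assoc, h, mul_assoc]
  have aa' : ∀ x, a.1 * (a.1 * x) = x := fun x => by rw [← mul_assoc, H.aa, one_mul]
  have e3 : (a * c).1 * (a * c).1 = -1 := by
    simp only [Units.val_mul, mul_assoc, c' H.ca, aa', H.cc]
  have e4 : (a * b).1 * (a * b).1 = -1 := by rw [H.mul_sq, H.aa, H.bb, one_mul]
  obtain ⟨g1, g11, g12, g13⟩ := h.exists_TT H.mc H.md H.cc H.dd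
  obtain ⟨g2, g21, g22, g23⟩ := h.exists_TT (mul_mem H.ma H.mc) (mul_mem H.ma H.mb) e3 e4
  obtain ⟨G, p1, p2, p3⟩ := path_facts H.cc H.dd e3 e4 H.dc
    (by simp only [Units.val_mul, mul_assoc, c' H.da, H.dc, mul_neg, neg_neg])
    (by simp only [Units.val_mul, mul_assoc, a' H.ba, c' H.ca, H.cb, mul_neg])
    (by simp only [Units.val_mul, mul_assoc, c' H.ca])
    (by simp only [Units.val_mul, mul_assoc, c' H.ca, H.cb])
    (by simp only [Units.val_mul, mul_assoc, c' H.da, H.db])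
  have q1 : (g1 * g2).1 + ((g1 * g2)⁻¹).1 = (2 : F)⁻¹ • (1 + G) := by
    rw [_root_.mul_inv_rev, Units.val_mul, Units.val_mul, g11, g12, g21, g22, smul_mul_smul_comm,
      smul_mul_smul_comm, ← smul_add, p1]
    match_scalars <;> field_simp
  refine ⟨-(g1 * g2), (g13.mul g23).neg, Units.ext ?_, fun e => ?_⟩
  · rw [Units.val_pow_eq_pow_val, Units.val_neg]
    refine pow_five_of (Units.mul_inv _) (Units.inv_mul _) ?_
    rw [q1, smul_mul_smul_comm, mul_add, add_mul, add_mul, p2]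
    simp only [one_mul, mul_one]
    match_scalars <;> field_simp <;> norm_num
  · have e1 : (g1 * g2).1 * c.1 = d.1 * (g1 * g2).1 := by
      rw [Units.val_mul, g11, g21, smul_mul_smul_comm, smul_mul_assoc, p3, mul_smul_comm]
    rw [neg_eq_iff_eq_neg.1 e] at e1
    have e2 : c.1 = d.1 := by simpa using e1
    exact h.ne_neg (c * d) (by rw [Units.val_mul, ← H.dc, e2])

/-- An element of order 3 with a fixed plane. -/
theorem exists_three (H : Q4 R a b c d) (hj : j ∈ R) {i : F} (e : j.1 = i • 1) (hi : i * i = -1) :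
    ∃ y, Good R y ∧ y ^ 3 = 1 ∧ y.1.trace = 1 ∧ (y.1 * y.1).trace = 1 := by
  have H' := H.toB4.smul hj e
  obtain ⟨u, u1, u2, u3⟩ := h.exists_u H'.ma H'.mb (by rw [smul_sq e hi, H.aa])
    (by rw [smul_sq e hi, H.bb]) H'.ba
  obtain ⟨v, v1, v2, v3⟩ := h.exists_u H.mc H.md H.cc H.dd H.dc
  have tu := (u3 1 (by simp) (by simp)).2
  have tv := (v3 1 (by simp) (by simp)).2
  rw [mul_one, h.trace_one'] at tu tv
  obtain ⟨uv, tuv⟩ := u3 v.1 (v3 _ H'.ca H'.da).1.symm (v3 _ H'.cb H'.db).1.symm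
  have cube : ∀ w : Matrix ι ι F, w * w + w + 1 = 0 → w ^ 3 = 1 := fun w hw => by
    have : w ^ 3 - 1 = (w - 1) * (w * w + w + 1) := by noncomm_ring
    rwa [hw, mul_zero, sub_eq_zero] at this
  have t1 : (u.1 * v.1).trace = 1 := mul_left_cancel₀ h.four_ne (by
    linear_combination 2 * tuv - tv)
  refine ⟨u * v, u1.mul v1, Units.ext ?_, t1, ?_⟩
  · rw [Units.val_pow_eq_pow_val, Units.val_mul, (show Commute u.1 v.1 from uv).mul_pow,
      cube _ u2, cube _ v2]; simp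
  · have : (u * v).1 * (u * v).1 = 1 + u.1 + v.1 + u.1 * v.1 := by
      rw [Units.val_mul, mul_assoc, ← mul_assoc v.1, ← uv, mul_assoc, ← mul_assoc,
        eq_neg_of_add_eq_zero_left ((add_assoc _ _ _).symm.trans u2),
        eq_neg_of_add_eq_zero_left ((add_assoc _ _ _).symm.trans v2)]
      noncomm_ring
    rw [this, trace_add, trace_add, trace_add, t1, h.trace_one']
    exact mul_left_cancel₀ h.two (by linear_combination tu + tv)

/-- A reflection. -/
theorem exists_cz (H : Q4 R a b c d) (hj : j ∈ R) {i : F} (e : j.1 = i • 1) (hi : i * i = -1) :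
    ∃ y, Good R y ∧ y.1 * y.1 = 1 ∧ y.1.trace = 2 ∧ ¬ Sc y := by
  have h0 := h.two
  have aa' : ∀ x, a.1 * (a.1 * x) = x := fun x => by rw [← mul_assoc, H.aa, one_mul]
  have ca' : ∀ x, c.1 * (a.1 * x) = a.1 * (c.1 * x) := fun x => by
    rw [← mul_assoc, H.ca, mul_assoc]
  let M : Matrix ι ι F := (2 : F)⁻¹ • (1 + a.1 + i • c.1 - i • (a.1 * c.1))
  have hM : M * M = 1 := by
    simp only [M, mul_add, add_mul, mul_sub, sub_mul, smul_mul_assoc, mul_smul_comm, one_mul,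
      mul_one, mul_assoc, aa', ca', H.aa, H.cc, H.ca, mul_neg]
    match_scalars <;> field_simp <;> grind
  have e1 : (j⁻¹ * a).1 = -i • a.1 := by
    rw [Units.val_mul, Units.inv_eq_of_mul_eq_one_right (a := -i • 1) (by
      rw [e, smul_mul_smul_comm, mul_neg, hi]; simp), smul_mul_assoc, one_mul]
  have e2 : (a⁻¹ * c⁻¹).1 = -(a.1 * c.1) := by
    rw [Units.val_mul, Units.inv_eq_of_mul_eq_one_right H.aa,
      Units.inv_eq_of_mul_eq_one_right (a := -c.1) (by rw [mul_neg, H.cc, neg_neg]), mul_neg]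
  have f1 : (j⁻¹ * a).1 * (j⁻¹ * a).1 = -1 := by
    rw [e1, smul_mul_smul_comm, neg_mul_neg, hi, H.aa]; simp
  have f2 : (a⁻¹ * c⁻¹).1 * (a⁻¹ * c⁻¹).1 = -1 := by
    rw [e2, neg_mul_neg, mul_assoc, ca', aa', H.cc]
  have hn := mul_mem (mul_mem (h.T_mem (mul_mem (inv_mem hj) H.ma) f1) (h.T_mem H.mc H.cc))
    (h.T_mem (mul_mem (inv_mem H.ma) (inv_mem H.mc)) f2)
  have t1 : a.1.trace = 0 := trace_eq_zero_of_anti h0 H.ba
  have t2 : c.1.trace = 0 := trace_eq_zero_of_anti h0 H.dc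
  have t3 : (a.1 * c.1).trace = 0 := trace_eq_zero_of_anti h0 (s := d) (by
    rw [← mul_assoc, H.da, mul_assoc, H.dc, mul_neg, mul_assoc])
  refine ⟨⟨M, M, hM, hM⟩, ⟨mem_normalizer_of_smul hn (c := (1 + i) / 4) ?_, fun τ hτ => ?_⟩, hM, ?_,
    fun ⟨w, hw⟩ => ?_⟩
  · simp only [T, Units.val_mul, e1, e2]
    simp only [M, mul_add, add_mul, smul_mul_assoc, mul_smul_comm, one_mul, neg_mul,
      mul_one, mul_assoc, aa', ca', H.aa, H.cc, H.ca, mul_neg]
    have h4 := h.four_ne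
    match_scalars <;> field_simp <;> grind
  · have t1 := hτ.eq H.ma H.aa
    have t2 : τ (i • c.1) = i • c.1 := by
      have := hτ.eq (mul_mem hj H.mc) (M := i • c.1) (by simp [e, smul_smul, hi, H.cc])
      simpa [e] using this
    have t3 : τ (i • (a.1 * c.1)) = i • (a.1 * c.1) := by
      rw [← mul_smul_comm, hτ.mul, t1, t2, smul_mul_assoc, H.ca, mul_smul_comm]
    rw [← hM]
    congr 1
    simp only [M, Adj.half h0, map_add, map_sub, hτ.one, t1, t2, t3]
  · simp only [M, trace_smul, trace_add, trace_sub, t1, t2, t3, h.trace_one', smul_eq_mul]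
    field_simp; norm_num
  · have := congrArg (fun N => (a.1 * N).trace) hw
    simp only [M, mul_smul_comm, mul_add, mul_sub, mul_one, aa', H.aa, trace_smul, trace_add,
      trace_sub, t1, t2, t3, h.trace_one', smul_eq_mul] at this
    exact h.four_ne (by simpa [h0] using this)

end St

end Cfsg.Lib.C6
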