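import Cfsg.Agent.Lib.C6.Two3

/-! Elusivity of the action on the conjugates of a 2-group of symplectic type in dimension 4. -/

namespace Cfsg.Lib.C6
open Matrix Cfsg.Lib.GLC Cfsg.Geo Cfsg.Lib.Unitary
open scoped MatrixGroups

variable {ι F : Type*} [Fintype ι] [DecidableEq ι] [Field F]

/-- Every element of `G` of order `r` modulo scalars is conjugate into `N(R)`. -/
def El (G : Subgroup (GL ι F)) (r : ℕ) (R : Subgroup (GL ι F)) : Prop :=
  ∀ x ∈ G, (∃ z : F, (x ^ r).1 = z • 1) → (∀ z : F, x.1 ≠ z • 1) →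
    ∃ g ∈ G, g⁻¹ * x * g ∈ Subgroup.normalizer (R : Set (GL ι F))

variable {G R : Subgroup (GL ι F)} {r : ℕ} {x y a b c d j : GL ι F}

theorem El.exists (H : El G r R) (hx : x ∈ G) (h1 : x ^ r = 1) (h2 : ¬ Sc x) :
    ∃ g : GL ι F, g⁻¹ * x * g ∈ Subgroup.normalizer (R : Set (GL ι F)) ∧ (g⁻¹ * x * g) ^ r = 1 ∧
      ¬ Sc (g⁻¹ * x * g) :=
  let ⟨g, _, hg⟩ := H x hx ⟨1, by simp [h1]⟩ (not_sc_iff.1 h2)
  ⟨g, hg, by rw [conj_pow', h1]; simp, mt sc_conj_iff.1 h2⟩

theorem exists_scale (hn : Fintype.card ι = 4) (hd : x.1.det = 1) (hr : r = 3 ∨ r = 5) {z : F}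
    (hz : (x ^ r).1 = z • 1) : ∃ c : F, c ^ 4 = 1 ∧ (c • x.1) ^ r = 1 := by
  rw [Units.val_pow_eq_pow_val] at hz
  have h4 : z ^ 4 = 1 := by
    have := congrArg det hz
    rw [det_pow, hd, det_smul, hn] at this
    simpa using this.symm
  rcases hr with rfl | rfl
  · exact ⟨z, h4, by rw [smul_pow, hz, smul_smul, ← pow_succ, h4, one_smul]⟩
  · refine ⟨z ^ 3, by rw [← pow_mul, mul_comm, pow_mul, h4, one_pow], ?_⟩
    rw [smul_pow, hz, smul_smul, show (z ^ 3) ^ 5 * z = (z ^ 4) ^ 4 by ring, h4, one_pow, one_smul]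

theorem sim_unscale {c : F} (hc : c ≠ 0) (h : Sim (toLin' y.1) (toLin' (c • x.1))) :
    Sim (toLin' (smulGL c⁻¹ (inv_ne_zero hc) y).1) (toLin' x.1) := by
  have := sim_smul h c⁻¹
  rwa [smul_smul, inv_mul_cancel₀ hc, one_smul] at this

theorem smul_ne_one {c : F} (hc : c ≠ 0) (hx : ∀ z : F, x.1 ≠ z • 1) : c • x.1 ≠ 1 := fun e =>
  hx c⁻¹ (by rw [← e, smul_smul, inv_mul_cancel₀ hc, one_smul])

/-- A reflection of order 3 and determinant 1. -/
def refl3 (ω : F) (h : ω ^ 2 + ω + 1 = 0) : GL (Fin 4) F :=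
  ⟨diagonal ![ω ^ 2, ω ^ 2, ω ^ 2, 1], diagonal ![ω, ω, ω, 1], by
    rw [diagonal_mul_diagonal, ← diagonal_one]; congr 1; ext i; fin_cases i <;> simp <;> grind, by
    rw [diagonal_mul_diagonal, ← diagonal_one]; congr 1; ext i; fin_cases i <;> simp <;> grind⟩

theorem refl3_det (ω : F) (h : ω ^ 2 + ω + 1 = 0) : (refl3 ω h).1.det = 1 := by
  simp [refl3, Fin.prod_univ_four]; grind

/-- An element of order 5 with quadratic minimal polynomial. -/
def quad5 (θ : F) : GL (Fin 4) F :=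
  ⟨!![0, -1, 0, 0; 1, θ, 0, 0; 0, 0, 0, -1; 0, 0, 1, θ],
    !![θ, 1, 0, 0; -1, 0, 0, 0; 0, 0, θ, 1; 0, 0, -1, 0], by
    ext i j; fin_cases i <;> fin_cases j <;> simp [mul_apply, Fin.sum_univ_four], by
    ext i j; fin_cases i <;> fin_cases j <;> simp [mul_apply, Fin.sum_univ_four]⟩

theorem quad5_sq (θ : F) : (quad5 θ).1 * (quad5 θ).1 = θ • (quad5 θ).1 - 1 := by
  ext i j; fin_cases i <;> fin_cases j <;> simp [quad5, mul_apply, Fin.sum_univ_four] <;> ring

theorem quad5_det (θ : F) : (quad5 θ).1.det = 1 := by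
  simp [quad5, det_succ_row_zero, Fin.sum_univ_succ, Fin.succAbove]

theorem quad5_not_sc (θ : F) : ¬ Sc (quad5 θ) := fun ⟨_, h⟩ => by
  simpa [quad5] using congrFun (congrFun h 1) 0

theorem minus_of {ι : Type} [Fintype ι] [DecidableEq ι] {R : Subgroup (GL ι F)} (h : St R)
    (hp : IsPGroup 2 R) (hm : IsOfMinusType 2 R) (hn : -1 ∈ R) : Minus R := by
  intro s hs t ht s2 t2 st
  by_contra! hne
  obtain ⟨n1, n2, n3⟩ := hne
  haveI := h.fin
  haveI : Fact (Nat.Prime 2) := ⟨Nat.prime_two⟩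
  let A : Subgroup R := Subgroup.closure {⟨-1, hn⟩, ⟨s, hs⟩, ⟨t, ht⟩}
  have st' : s * t = t * s := Units.ext st
  have hc : IsMulCommutative A := Subgroup.isMulCommutative_closure (by
    rintro _ (rfl | rfl | rfl) _ (rfl | rfl | rfl) <;> apply Subtype.ext <;> simp [st'])
  have h2 : ∀ x ∈ A, x * x = 1 := by
    intro x hx
    induction hx using Subgroup.closure_induction with
    | mem x hx =>
      rcases hx with rfl | rfl | rfl <;> apply Subtype.ext
      exacts [by simp, Units.ext s2, Units.ext t2]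
    | one => simp
    | mul x y hx hy ix iy =>
      have : x * y = y * x := congrArg Subtype.val (hc.is_comm.comm (⟨x, hx⟩ : A) ⟨y, hy⟩)
      calc x * y * (x * y) = x * (y * x) * y := by group
        _ = x * x * (y * y) := by rw [← this]; group
        _ = 1 := by rw [ix, iy, one_mul]
    | inv x _ ix => rw [← _root_.mul_inv_rev, ix, inv_one]
  have h8 := hm A hc h2
  obtain ⟨k, hk⟩ := IsPGroup.iff_card.1 (hp.to_subgroup A)
  have m1 : (⟨-1, hn⟩ : R) ∈ A := Subgroup.subset_closure (by simp)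
  have m2 : (⟨s, hs⟩ : R) ∈ A := Subgroup.subset_closure (by simp)
  have m3 : (⟨t, ht⟩ : R) ∈ A := Subgroup.subset_closure (by simp)
  have sn : Sc (-1 : GL ι F) := ⟨-1, by simp⟩
  have q : ∀ u : GL ι F, Sc (-u) → Sc u := fun u hu => by simpa using sn.mul hu
  have o1 : (-1 : GL ι F) ≠ 1 := fun e => h.ne_neg 1 (congrArg Units.val e).symm
  have o2 : -s ≠ s := fun e => h.ne_neg s (congrArg Units.val e).symm
  have ss : s * s = 1 := Units.ext s2
  have h5 : 5 ≤ Nat.card A := by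
    let f : Fin 5 → A := ![1, ⟨_, m1⟩, ⟨_, m2⟩, ⟨_, m1⟩ * ⟨_, m2⟩, ⟨_, m3⟩]
    have : Function.Injective fun i => (f i).1.1 := by
      have d1 : s ≠ 1 := fun e => n1 (e ▸ sc_one)
      have d2 : s ≠ -1 := fun e => n1 (e ▸ sn)
      have d3 : t ≠ 1 := fun e => n2 (e ▸ sc_one)
      have d4 : t ≠ -1 := fun e => n2 (e ▸ sn)
      have d5 : t ≠ s := fun e => n3 (by rw [e, ss]; exact sc_one)
      have d6 : t ≠ -s := fun e => n3 (by rw [e, mul_neg, ss]; exact sn)
      have d7 : -s ≠ 1 := fun e => d2 (neg_eq_iff_eq_neg.1 e)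
      intro i k e
      fin_cases i <;> fin_cases k <;>
        simp [f, d1, d2, d3, d4, d5, d6, d7, o1, o2, d1.symm, d2.symm, d3.symm, d4.symm, d5.symm,
          d6.symm, d7.symm, o1.symm, o2.symm] at e ⊢
    simpa using Nat.card_le_card_of_injective f (Function.Injective.of_comp (f := fun a : A => a.1.1)
      this)
  rw [hk] at h8 h5
  have := (Nat.pow_lt_pow_iff_right one_lt_two).1 h8
  interval_cases k <;> omega

namespace St
variable (h : St R)
include h

theorem exists_i (hZ : 2 < Nat.card (Subgroup.center R)) :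
    ∃ j ∈ R, ∃ i : F, j.1 = i • 1 ∧ i * i = -1 := by
  classical
  haveI := h.nonempty
  by_contra! h1
  have key : ∀ s : Subgroup.center R, s.1.1.1 = 1 ∨ s.1.1.1 = -1 := fun s => by
    obtain ⟨c, hc⟩ := (mem_center_iff h.schur).1 s.2
    rcases h.sq _ s.1.2 with e | e <;> rw [hc, smul_mul_smul_comm, one_mul] at e
    · rcases mul_self_eq_one_iff.1 (smul_one_inj (e.trans (one_smul _ _).symm)) with e | e <;>
        simp [hc, e]
    · exact absurd (smul_one_inj (e.trans (neg_one_smul _ _).symm)) (h1 _ s.1.2 c hc)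
  have := Nat.card_le_card_of_injective (fun s : Subgroup.center R => decide (s.1.1.1 = 1))
    fun s t e => Subtype.ext (Subtype.ext (Units.ext (by
      have := key s; have := key t; simp only [decide_eq_decide] at e; grind)))
  simp at this
  omega

theorem neg_one_mem (H : B4 R a b c d) : -1 ∈ R := by
  have : b * a * (a * b)⁻¹ = -1 := by
    rw [show b * a = -(a * b) from Units.ext H.ba, neg_mul, mul_inv_cancel]
  exact this ▸ mul_mem (mul_mem H.mb H.ma) (inv_mem (mul_mem H.ma H.mb))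

theorem three_sim [Finite F] (H : Q4 R a b c d) (hj : j ∈ R) {i : F} (e : j.1 = i • 1)
    (hi : i * i = -1) (h3 : ((3 : ℕ) : F) ≠ 0) (hR : ∀ y, Good R y → y.1 ^ 3 = 1 → Rat 3 y.1)
    {A : Matrix ι ι F} (hA : Rat 3 A) (hA1 : A ≠ 1) :
    ∃ y, Good R y ∧ Sim (toLin' y.1) (toLin' A) := by
  have h3' : (3 : F) ≠ 0 := by exact_mod_cast h3
  by_cases h1 : A * A + A + 1 = 0
  · obtain ⟨u, u1, u2, u3⟩ := h.exists_u H.mc H.md H.cc H.dd H.dc
    have tu := (u3 1 (by simp) (by simp)).2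
    refine ⟨u, u1, (hR u u1 ?_).sim_three h3 h.four hA (fun e => ?_) hA1 (iff_of_true u2 h1)⟩
    · have : u.1 ^ 3 - 1 = (u.1 - 1) * (u.1 * u.1 + u.1 + 1) := by noncomm_ring
      rwa [u2, mul_zero, sub_eq_zero] at this
    · rw [e, mul_one, h.trace_one'] at tu
      exact mul_ne_zero h3' h.four_ne (by linear_combination tu)
  · obtain ⟨y, y1, y2, y3, y4⟩ := h.exists_three H hj e hi
    refine ⟨y, y1, (hR y y1 (by rw [← Units.val_pow_eq_pow_val, y2]; rfl)).sim_three h3 h.four hA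
      (fun e => ?_) hA1 (iff_of_false (fun e => ?_) h1)⟩
    · rw [e, h.trace_one'] at y3
      exact h3' (by linear_combination y3)
    · have := congrArg trace e
      rw [trace_add, trace_add, y3, y4, h.trace_one', trace_zero] at this
      exact mul_ne_zero h3' h.two (by linear_combination this)

theorem five_sim [Finite F] (H : Q4 R a b c d) (h5 : ((5 : ℕ) : F) ≠ 0)
    (hR : ∀ y, Good R y → y.1 ^ 5 = 1 → Rat 5 y.1) {A : Matrix ι ι F} (hA : Rat 5 A)
    (hA1 : A ≠ 1) : ∃ y, Good R y ∧ Sim (toLin' y.1) (toLin' A) := by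
  obtain ⟨y, y1, y2, y3⟩ := h.exists_five H
  exact ⟨y, y1, (hR y y1 (by rw [← Units.val_pow_eq_pow_val, y2]; rfl)).sim_five h5 h.four hA
    (fun e => y3 (Units.ext e)) hA1⟩

theorem prime_cases {m : ℕ} (hm : m = 2 ∨ m = 4) (hZ : Nat.card (Subgroup.center R) = m)
    (hR : Nat.card R = 16 * m) [Finite G] (hG : ∀ x ∈ G, x.1.det = 1) [hr : Fact r.Prime]
    (hd : r ∣ Nat.card G) (H : El G r R) : r = 2 ∨ r = 3 ∨ r = 5 := by
  haveI := h.nonempty
  by_cases h2 : r = 2
  · exact .inl h2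
  obtain ⟨x, hx, h1, h3⟩ := exists_pow_eq_one hd
  obtain ⟨g, g1, g2, g3⟩ := H.exists hx h1 (not_sc_of_coprime h1 h3 (hG x hx) (by
    rw [h.four]; exact ((Nat.coprime_primes hr.out Nat.prime_two).2 h2).pow_right 2))
  have := h.cent_cases hm hZ hR g1 (g2 ▸ sc_one) g3
  omega

theorem el_quad (H : El G 5 R) (hx : x ∈ G) {θ : F} (hθ : θ ^ 2 + θ - 1 = 0)
    (hq : x.1 * x.1 = θ • x.1 - 1) : Sc x := by
  by_contra h1
  obtain ⟨g, g1, g2, g3⟩ := H.exists hx (Units.ext (by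
    rw [Units.val_pow_eq_pow_val, pow_five_of_quad hθ hq]; rfl)) h1
  refine g3 (h.not_quad g1 g2 (θ := θ) ?_)
  have : ∀ M, x.1 * (x.1 * M) = θ • (x.1 * M) - M := fun M => by
    rw [← mul_assoc, hq, sub_mul, smul_mul_assoc, one_mul]
  simp only [Units.val_mul, mul_assoc, Units.mul_inv_cancel_left, this, mul_sub, mul_smul_comm,
    Units.inv_mul]

theorem el_tv (H : El G 3 R) (hx : x ∈ G) (h3 : (3 : F) = 0) {u v : ι → F}
    (e : x.1 = 1 + vecMulVec u v) (huv : v ⬝ᵥ u = 0) : Sc x := by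
  by_contra h1
  have hN : vecMulVec u v * vecMulVec u v = 0 := by rw [vecMulVec_mul_vecMulVec, huv]; simp
  obtain ⟨g, g1, g2, g3⟩ := H.exists hx (Units.ext (by
    have : (1 + vecMulVec u v) ^ 3 = 1 + (3 : F) • vecMulVec u v := by
      simp only [pow_succ, pow_zero, one_mul, mul_add, add_mul, mul_one, hN, zero_mul]; module
    rw [Units.val_pow_eq_pow_val, e, this, h3]; simp)) h1
  refine g3 (h.not_tv g1 (k := 3) (by decide) (g2 ▸ sc_one)
    (N := (g⁻¹).1 * vecMulVec u v * g.1) ?_ ?_ fun M => ?_)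
  · simp [e, mul_add, add_mul]
  · simp only [mul_assoc, Units.mul_inv_cancel_left]
    rw [← mul_assoc (vecMulVec u v), hN]; simp
  · rw [mul_vecMulVec, vecMulVec_mul, mul_vecMulVec, vecMulVec_mul_vecMulVec, vecMulVec_mul,
      trace_vecMulVec, ← vecMulVec_smul, dotProduct_mulVec, dotProduct_comm]

theorem trace_cases {m : ℕ} (hm : m = 2 ∨ m = 4) (hZ : Nat.card (Subgroup.center R) = m)
    (hR : Nat.card R = 16 * m) (hy : y ∈ Subgroup.normalizer (R : Set (GL ι F))) (h1 : y ^ 3 = 1)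
    (h2 : ¬ Sc y) : y.1.trace * (y⁻¹).1.trace = 4 ∨ y.1.trace * (y⁻¹).1.trace = 1 ∧
      ∀ s ∈ R, y * s = s * y → Sc s := by
  haveI : Fact (Nat.Prime 3) := ⟨Nat.prime_three⟩
  haveI := h.fin
  have e := h.trace_formula hy (k := 3) (by decide) (h1 ▸ sc_one)
  generalize y.1.trace * (y⁻¹).1.trace = T at e ⊢
  have h0 : (16 * m : F) ≠ 0 := by
    have := h.two
    rcases hm with rfl | rfl <;> push_cast
    · rw [show (16 * 2 : F) = 2 ^ 5 by norm_num]; positivity
    · rw [show (16 * 4 : F) = 2 ^ 6 by norm_num]; positivity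
  rcases h.cent_cases hm hZ hR hy (h1 ▸ sc_one) h2 with h3 | h3 | ⟨-, h3 | h3⟩
  · omega
  · omega
  · rw [h3, hR] at e
    refine .inr ⟨mul_left_cancel₀ h0 (by push_cast at e; linear_combination -e), fun s hs e' => ?_⟩
    haveI : Finite ↥(R ⊓ Subgroup.centralizer {y}) :=
      Finite.of_injective _ (Subgroup.inclusion_injective inf_le_left)
    have hle : (Subgroup.center R).map R.subtype ≤ R ⊓ Subgroup.centralizer {y} := by
      rintro _ ⟨t, ht, rfl⟩
      exact ⟨t.2, Subgroup.mem_centralizer_singleton_iff.2 (((mem_center_iff h.schur).1 ht).comm y)⟩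
    obtain ⟨t, ht, rfl⟩ := (Subgroup.eq_of_le_of_card_ge hle (by
      rw [Subgroup.card_map_of_injective R.subtype_injective, hZ, h3])).ge
      (show s ∈ R ⊓ Subgroup.centralizer {y} from
        ⟨hs, Subgroup.mem_centralizer_singleton_iff.2 e'.symm⟩)
    exact (mem_center_iff h.schur).1 ht
  · rw [h3, hR] at e
    exact .inl (mul_left_cancel₀ h0 (by push_cast at e; linear_combination -e))

omit h in
theorem el_refl {G R : Subgroup (GL (Fin 4) F)} (h : St R) (hZ : Nat.card (Subgroup.center R) = 4)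
    (hR : Nat.card R = 64) (H : El G 3 R) (h3 : (3 : F) ≠ 0) {ω : F} (hω : ω ^ 2 + ω + 1 = 0) :
    refl3 ω hω ∉ G := by
  intro hx
  obtain ⟨g, g1, g2, g3⟩ := H.exists hx (Units.ext (by
    rw [Units.val_pow_eq_pow_val]
    change diagonal _ ^ 3 = 1
    rw [diagonal_pow, ← diagonal_one]; congr 1; ext i; fin_cases i <;> simp <;> grind))
    fun ⟨z, hz⟩ => by
      have h1 := congrFun (congrFun hz 0) 0
      have h2 := congrFun (congrFun hz 3) 3
      simp [refl3] at h1 h2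
      grind
  have e : (g⁻¹ * refl3 ω hω * g).1.trace * ((g⁻¹ * refl3 ω hω * g)⁻¹).1.trace = 7 := by
    rw [show (g⁻¹ * refl3 ω hω * g)⁻¹ = g⁻¹ * (refl3 ω hω)⁻¹ * g by group]
    simp only [Units.val_mul, trace_units_conj']
    change trace (diagonal _) * trace (diagonal ![ω, ω, ω, 1]) = _
    simp [Fin.sum_univ_four]; grind
  rcases h.trace_cases (.inr rfl) hZ hR g1 g2 g3 with e' | ⟨e', -⟩ <;> rw [e] at e'
  · exact h3 (by linear_combination e')
  · exact mul_ne_zero h3 h.two (by linear_combination e')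

theorem not_fpf (H : Q4 R a b c d) (hm : Minus R) (hZ : ∀ s ∈ R, Sc s → s * s = 1)
    (hy : y ∈ Subgroup.normalizer (R : Set (GL ι F)))
    (h1 : y ^ 3 = 1) (h2 : ∀ s ∈ R, y * s = s * y → Sc s) : False := by
  have h3 : ∀ s ∈ R, Sc (y * s * y⁻¹ * s⁻¹) → Sc s := fun s hs e =>
    h2 s hs (h.commute_of_sc hs e (k := 3) (by decide) (h1 ▸ sc_one))
  have na : ¬ Sc a := h.not_sc_of_anti H.ba
  have aa : a * a = 1 := Units.ext H.aa
  have m1 := conj_mem hy H.ma
  have m2 := conj_mem hy m1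
  set a1 := y * a * y⁻¹ with ha1
  set a2 := y * a1 * y⁻¹ with ha2
  have e0 : y * a2 * y⁻¹ = a := by
    calc y * a2 * y⁻¹ = y ^ 3 * a * (y ^ 3)⁻¹ := by rw [ha2, ha1]; simp [pow_succ, mul_assoc]
      _ = a := by rw [h1]; simp
  have aa1 : a1 * a1 = 1 := by rw [ha1]; simp [mul_assoc, ← mul_assoc a a, aa]
  have aa2 : a2 * a2 = 1 := by rw [ha2]; simp [mul_assoc, ← mul_assoc a1 a1, aa1]
  have hw : Sc (a * (a1 * a2)) := by
    refine h3 _ (mul_mem H.ma (mul_mem m1 m2)) ?_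
    have : y * (a * (a1 * a2)) * y⁻¹ = a1 * a2 * a := by
      calc _ = y * a * y⁻¹ * (y * a1 * y⁻¹) * (y * a2 * y⁻¹) := by group
        _ = _ := by rw [e0]
    rw [this]
    rcases h.comm_or H.ma (mul_mem m1 m2) with e | e
    · rw [show a1 * a2 * a = a * (a1 * a2) from Units.ext e.symm, mul_inv_cancel]; exact sc_one
    · rw [show a1 * a2 * a = -(a * (a1 * a2)) from Units.ext (neg_eq_iff_eq_neg.1 e.symm),
        neg_mul, mul_inv_cancel]
      exact ⟨-1, by simp⟩
  have hc : a * a1 = a1 * a := by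
    have e1 := hZ _ (mul_mem H.ma (mul_mem m1 m2)) hw
    have e3 : a * a1 = a * (a1 * a2) * a2 := by simp only [mul_assoc, aa2, mul_one]
    have e4 : a * a1 * (a * a1) = 1 := by
      rw [e3, mul_assoc, ← mul_assoc a2, ← hw.comm a2, mul_assoc _ a2 a2, aa2, mul_one, e1]
    rw [eq_inv_of_mul_eq_one_left e4, _root_.mul_inv_rev, inv_eq_of_mul_eq_one_right aa,
      inv_eq_of_mul_eq_one_right aa1]
  rcases hm a H.ma a1 m1 H.aa (congrArg Units.val aa1) (congrArg Units.val hc) with e | e | e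
  · exact na e
  · exact na (by rwa [ha1, ← inv_inv y, inv_inv y⁻¹, sc_conj_iff] at e)
  · refine na (h3 a H.ma ?_)
    rwa [← ha1, inv_eq_of_mul_eq_one_right aa, ← hc]

end St

end Cfsg.Lib.C6
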