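import Cfsg.Agent.Lib.C6.Basic

/-! Extraspecial subgroups of order 27 and exponent 3 of `GL₃`: standard form, normaliser. -/

namespace Cfsg.Lib.C6
open Matrix Cfsg.Lib.GLC Cfsg.Lib.Unitary Cfsg.Geo
open scoped MatrixGroups

theorem card_center_of_27 {G : Type*} [Group G] (h : Nat.card G = 27)
    (hna : ¬ IsMulCommutative G) : Nat.card (Subgroup.center G) = 3 ∧
      ∀ a b : G, a * b * a⁻¹ * b⁻¹ ∈ Subgroup.center G := by
  haveI : Finite G := Nat.finite_of_card_ne_zero (by omega)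
  haveI : Fact (Nat.Prime 3) := ⟨Nat.prime_three⟩
  have hp : IsPGroup 3 G := IsPGroup.of_card (n := 3) h
  haveI : Nontrivial G := Finite.one_lt_card_iff_nontrivial.1 (by omega)
  have h1 := Subgroup.card_mul_index (Subgroup.center G)
  have h2 : 1 < Nat.card (Subgroup.center G) :=
    Finite.one_lt_card_iff_nontrivial.2 hp.center_nontrivial
  have h3 : ¬ IsCyclic (G ⧸ Subgroup.center G) := fun hc => hna ⟨⟨
    commutative_of_cyclic_center_quotient (QuotientGroup.mk' _) (QuotientGroup.ker_mk' _).le⟩⟩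
  obtain ⟨i, hi, e⟩ := (Nat.dvd_prime_pow Nat.prime_three).1
    ((Subgroup.card_subgroup_dvd_card (Subgroup.center G)).trans (h.trans (by norm_num : 27 = 3 ^ 3)).dvd)
  rw [h, e] at h1
  rw [e] at h2 ⊢
  interval_cases i
  · omega
  · refine ⟨rfl, fun a b => ?_⟩
    have := (IsPGroup.isMulCommutative_of_card_eq_prime_sq (p := 3)
      (G := G ⧸ Subgroup.center G) (show (Subgroup.center G).index = _ by omega)).is_comm.comm
      (a : G ⧸ Subgroup.center G) b
    rw [← QuotientGroup.eq_one_iff, QuotientGroup.mk_mul, QuotientGroup.mk_mul,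
      QuotientGroup.mk_mul, this]
    simp
  · exact absurd (isCyclic_of_prime_card (p := 3) (show (Subgroup.center G).index = _ by omega)) h3
  · haveI : Subsingleton (G ⧸ Subgroup.center G) :=
      (Nat.card_eq_one_iff_unique.1 (show (Subgroup.center G).index = _ by omega)).1
    exact absurd isCyclic_of_subsingleton h3

theorem closure_pair_eq_top_of_27 {G : Type*} [Group G] (h : Nat.card G = 27) {a b : G}
    (hab : a * b ≠ b * a) : Subgroup.closure {a, b} = ⊤ := by
  haveI : Finite G := Nat.finite_of_card_ne_zero (by omega)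
  haveI : Fact (Nat.Prime 3) := ⟨Nat.prime_three⟩
  set K := Subgroup.closure ({a, b} : Set G)
  have hK : ¬ IsMulCommutative K := fun hc => hab (congrArg Subtype.val (hc.is_comm.comm
    (⟨a, Subgroup.subset_closure (by simp)⟩ : K) ⟨b, Subgroup.subset_closure (by simp)⟩))
  obtain ⟨i, hi, e⟩ := (Nat.dvd_prime_pow Nat.prime_three).1
    ((Subgroup.card_subgroup_dvd_card K).trans (h.trans (by norm_num : 27 = 3 ^ 3)).dvd)
  interval_cases i
  · haveI : Subsingleton K := (Nat.card_eq_one_iff_unique.1 e).1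
    exact absurd ⟨⟨fun _ _ => Subsingleton.elim _ _⟩⟩ hK
  · haveI := isCyclic_of_prime_card (p := 3) e
    exact absurd IsCyclic.isMulCommutative hK
  · exact absurd (IsPGroup.isMulCommutative_of_card_eq_prime_sq e) hK
  · exact Subgroup.eq_top_of_card_eq _ (e.trans h.symm)

variable {F : Type*} [Field F]

/-- The cyclic permutation matrix. -/
def P3 (F : Type*) [Field F] : Matrix (Fin 3) (Fin 3) F := !![0, 0, 1; 1, 0, 0; 0, 1, 0]

/-- Standard form of an extraspecial group of order 27. -/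
structure Std3 (R : Subgroup (GL (Fin 3) F)) (μ : F) (a b z : GL (Fin 3) F) : Prop where
  hμ : μ ^ 2 + μ + 1 = 0
  ne : μ ≠ 1
  ha : a.1 = diagonal ![1, μ, μ ^ 2]
  hb : b.1 = P3 F
  hz : z.1 = μ • 1
  zmem : z ∈ R
  eq : R = Subgroup.closure {a, b}

theorem cube_cases {μ t : F} (hμ : μ ^ 2 + μ + 1 = 0) (ht : t ^ 3 = 1) :
    t = 1 ∨ t = μ ∨ t = μ ^ 2 := by
  have : (t - 1) * ((t - μ) * (t - μ ^ 2)) = 0 := by
    linear_combination ht + (-(t ^ 2) + t * μ + t - μ - 1 + (μ - 1) * (t - 1) + 1 - t * μ + μ) * hμ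
  rcases mul_eq_zero.1 this with h | h
  · exact Or.inl (sub_eq_zero.1 h)
  · exact Or.inr ((mul_eq_zero.1 h).imp sub_eq_zero.1 sub_eq_zero.1)

theorem exists_std3 [Finite F] (h3 : 3 ∣ Nat.card F - 1) {R : Subgroup (GL (Fin 3) F)}
    (hR : Nat.card R = 27) (he : Monoid.exponent R = 3) (hna : ¬ IsMulCommutative R) :
    ∃ (G : GL (Fin 3) F) (μ : F) (a b z : GL (Fin 3) F),
      Std3 (R.map (MulAut.conj G⁻¹).toMonoidHom) μ a b z := by
  have hcube : ∀ s : R, s.1.1 ^ 3 = 1 := fun s => by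
    have := Monoid.pow_exponent_eq_one s
    rw [he] at this
    rw [← Units.val_pow_eq_pow_val, ← Subgroup.coe_pow, this]; rfl
  obtain ⟨a, b, hab⟩ : ∃ a b : R, a * b ≠ b * a := by
    by_contra! h; exact hna ⟨⟨h⟩⟩
  have hzc := (card_center_of_27 hR hna).2 a b
  set z := a * b * a⁻¹ * b⁻¹ with hzd
  have hz1 : z ≠ 1 := fun h => hab (by rw [← mul_inv_eq_one, ← h, hzd]; group)
  have hzab : a * b = z * b * a := by rw [hzd]; group
  clear_value z
  have hcm : ∀ s : R, s.1.1 * z.1.1 = z.1.1 * s.1.1 := fun s =>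
    congrArg (fun t : R => t.1.1) (Subgroup.mem_center_iff.1 hzc s)
  obtain ⟨β, χ, hχ⟩ := exists_eigenbasis (n := Fin 3) ![toLin' a.1.1, toLin' z.1.1]
    (by
      have h1 : Commute (toLin' a.1.1) (toLin' z.1.1) := commute_toLin'_iff.2 (hcm a)
      intro i j
      fin_cases i <;> fin_cases j
      exacts [.refl _, h1, h1.symm, .refl _])
    (by
      have h1 : ∀ s : R, ∃ M, Blocks (toLin' s.1.1) (lt M) := fun s =>
        exists_lt_of_pow h3 one_ne_zero (by rw [← toLin'_pow', hcube, toLin'_eq_smul_one_iff]; simp)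
      intro i
      fin_cases i
      exacts [h1 a, h1 z])
    (by simp)
  obtain ⟨j, hj⟩ : ∃ j, χ 1 j ≠ 1 := by
    by_contra! h
    refine hz1 (Subtype.ext (Units.ext (toLin'.injective (β.ext fun j => ?_))))
    have := hχ 1 j
    rw [h, one_smul] at this
    simpa using this
  set v := β j
  set μ := χ 1 j
  set l := χ 0 j
  have hv : v ≠ 0 := β.ne_zero j
  have hav : a.1.1 *ᵥ v = l • v := hχ 0 j
  have hzv : z.1.1 *ᵥ v = μ • v := hχ 1 j
  have hcub : ∀ (s : R) (t : F), s.1.1 *ᵥ v = t • v → t ^ 3 = 1 := fun s t h => by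
    have : s.1.1 ^ 3 *ᵥ v = t ^ 3 • v := by
      simp only [pow_succ, pow_zero, one_mul, ← mulVec_mulVec, h, mulVec_smul, smul_smul, mul_assoc]
    rw [hcube, one_mulVec] at this
    exact smul_left_injective F hv (this.symm.trans (one_smul _ _).symm)
  have hμ : μ ^ 2 + μ + 1 = 0 :=
    mul_left_cancel₀ (sub_ne_zero.2 hj) (by linear_combination hcub z μ hzv)
  have hμ3 := hcub z μ hzv
  -- replace `a` by `a z^k` fixing `v`
  obtain ⟨a', hav', hab'⟩ : ∃ a' : R, a'.1.1 *ᵥ v = v ∧ a' * b = z * b * a' := by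
    have hc := Subgroup.mem_center_iff.1 hzc
    rcases cube_cases hμ (hcub a l hav) with h | h | h
    · exact ⟨a, by rw [hav, h, one_smul], hzab⟩
    · refine ⟨a * z * z, ?_, ?_⟩
      · simp only [Subgroup.coe_mul, Units.val_mul, ← mulVec_mulVec, hzv, hav, mulVec_smul,
          smul_smul, h]
        rw [show μ * (μ * μ) = 1 by linear_combination hμ3, one_smul]
      · calc a * z * z * b = a * (z * b) * z := by
              rw [mul_assoc (a * z), (hc b).symm, ← mul_assoc, mul_assoc a z b, (hc b).symm]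
          _ = a * b * z * z := by rw [← hc b]; group
          _ = _ := by rw [hzab]; group
    · refine ⟨a * z, ?_, ?_⟩
      · simp only [Subgroup.coe_mul, Units.val_mul, ← mulVec_mulVec, hzv, hav, mulVec_smul,
          smul_smul, h]
        rw [show μ * μ ^ 2 = 1 by linear_combination hμ3, one_smul]
      · calc a * z * b = a * b * z := by rw [mul_assoc, ← hc b, mul_assoc]
          _ = _ := by rw [hzab]; group
  have e1 : a'.1.1 * b.1.1 = z.1.1 * b.1.1 * a'.1.1 := congrArg (fun t : R => t.1.1) hab'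
  have zb : ∀ w (t : F), z.1.1 *ᵥ w = t • w → z.1.1 *ᵥ (b.1.1 *ᵥ w) = t • (b.1.1 *ᵥ w) := fun w t h => by
    rw [mulVec_mulVec, ← hcm b, ← mulVec_mulVec, h, mulVec_smul]
  have ab : ∀ w (t : F), z.1.1 *ᵥ w = μ • w → a'.1.1 *ᵥ w = t • w →
      a'.1.1 *ᵥ (b.1.1 *ᵥ w) = (t * μ) • (b.1.1 *ᵥ w) := fun w t h h' => by
    rw [mulVec_mulVec, e1, ← mulVec_mulVec, h', mulVec_smul, ← mulVec_mulVec, zb w μ h, smul_smul]
  let w : Fin 3 → Fin 3 → F := ![v, b.1.1 *ᵥ v, b.1.1 *ᵥ (b.1.1 *ᵥ v)]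
  have hzw : ∀ i, z.1.1 *ᵥ w i = μ • w i := by
    intro i; fin_cases i
    exacts [hzv, zb _ _ hzv, zb _ _ (zb _ _ hzv)]
  have h1v : a'.1.1 *ᵥ v = (1 : F) • v := by rw [hav', one_smul]
  have haw : ∀ i, a'.1.1 *ᵥ w i = ![1, μ, μ ^ 2] i • w i := by
    intro i; fin_cases i
    · exact h1v
    · simpa [w] using ab _ _ hzv h1v
    · simpa [w, pow_two] using ab _ _ (zb _ _ hzv) (ab _ _ hzv h1v)
  have hbv : b.1.1 *ᵥ (b.1.1 *ᵥ (b.1.1 *ᵥ v)) = v := by
    have := congrArg (· *ᵥ v) (hcube b)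
    simpa only [pow_succ, pow_zero, one_mul, ← mulVec_mulVec, one_mulVec] using this
  have hbne : ∀ u : Fin 3 → F, u ≠ 0 → b.1.1 *ᵥ u ≠ 0 := fun u hu h => hu (by
    have := congrArg ((b.1⁻¹).1 *ᵥ ·) h
    simpa only [mulVec_mulVec, Units.inv_mul, one_mulVec, mulVec_zero] using this)
  have hμ0 : μ ≠ 0 := fun h => by rw [h] at hμ; simp at hμ
  have hli : LinearIndependent F w := by
    refine Module.End.eigenvectors_linearIndependent' (toLin' a'.1.1) ![1, μ, μ ^ 2] ?_ w
      fun i => ⟨Module.End.mem_eigenspace_iff.2 (haw i), ?_⟩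
    · have h1 : μ ^ 2 ≠ 1 := fun h => hj (by linear_combination hμ3 - μ * h)
      have h2 : μ ^ 2 ≠ μ := fun h => hj (mul_left_cancel₀ hμ0 (by linear_combination h))
      intro i k h
      fin_cases i <;> fin_cases k <;> simp at h ⊢ <;> grind
    · fin_cases i
      exacts [hv, hbne _ hv, hbne _ (hbne _ hv)]
  obtain ⟨G, hG⟩ := linearIndependent_cols_iff_isUnit.1 (show LinearIndependent F (of w)ᵀ.col from hli)
  have key : ∀ (s : GL (Fin 3) F) (M : Matrix (Fin 3) (Fin 3) F),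
      (∀ k, s.1 *ᵥ w k = ∑ i, M i k • w i) → (G⁻¹ * s * G).1 = M := by
    intro s M h
    have : s.1 * G.1 = G.1 * M := by
      ext i k
      have := congrFun (h k) i
      rw [hG]
      simpa [mul_apply, mulVec, dotProduct, mul_comm] using this
    rw [mul_assoc, Units.val_mul, Units.val_mul, this, ← mul_assoc, Units.inv_mul, one_mul]
  refine ⟨G, μ, G⁻¹ * a'.1 * G, G⁻¹ * b.1 * G, G⁻¹ * z.1 * G, hμ, hj, key _ _ fun k => ?_,
    key _ _ fun k => ?_, key _ _ fun k => ?_, ⟨z.1, z.2, by simp⟩, ?_⟩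
  · rw [haw]; simp [diagonal_apply]
  · fin_cases k <;> simp [P3, Fin.sum_univ_three, w, -mulVec_mulVec, hbv]
  · rw [hzw]; simp [one_apply]
  · have hne : a' * b ≠ b * a' := fun h => hz1 (by
      rw [h, mul_assoc] at hab'; exact (mul_eq_right.1 hab'.symm))
    have := congrArg (Subgroup.map ((MulAut.conj G⁻¹).toMonoidHom.comp R.subtype))
      (closure_pair_eq_top_of_27 hR hne)
    rw [MonoidHom.map_closure, ← Subgroup.map_map, ← MonoidHom.range_eq_map,
      Subgroup.range_subtype, Set.image_pair] at this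
    rw [← this]; simp

namespace Std3
variable {R : Subgroup (GL (Fin 3) F)} {μ : F} {a b z y : GL (Fin 3) F} (h : Std3 R μ a b z)
include h

theorem amem : a ∈ R := h.eq ▸ Subgroup.subset_closure (by simp)
theorem bmem : b ∈ R := h.eq ▸ Subgroup.subset_closure (by simp)
theorem cube : μ ^ 3 = 1 := by linear_combination (μ - 1) * h.hμ

theorem det_eq {s : GL (Fin 3) F} (hs : s ∈ R) : s.1.det = 1 := by
  have : R ≤ specialLinear (Fin 3) F := by
    rw [h.eq, Subgroup.closure_le]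
    rintro _ (rfl | rfl)
    · exact mem_sl_iff.2 (by
        rw [h.ha, det_diagonal, Fin.prod_univ_three]; simp; linear_combination h.cube)
    · exact mem_sl_iff.2 (by rw [h.hb]; simp [P3, det_fin_three])
  exact mem_sl_iff.1 (this hs)

theorem schur : Schur R := by
  intro M hM
  have h1 := hM a h.amem
  have h2 := hM b h.bmem
  rw [h.ha] at h1
  rw [h.hb] at h2
  have hμ0 : μ ≠ 0 := fun e => by have := h.hμ; rw [e] at this; simp at this
  have n1 : μ - 1 ≠ 0 := sub_ne_zero.2 h.ne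
  have n2 : μ ^ 2 - 1 ≠ 0 := fun e => n1 (by linear_combination h.cube - μ * e)
  have a01 := congrFun (congrFun h1 0) 1
  have a02 := congrFun (congrFun h1 0) 2
  have b00 := congrFun (congrFun h2 0) 0
  have b01 := congrFun (congrFun h2 0) 1
  have b02 := congrFun (congrFun h2 0) 2
  have b10 := congrFun (congrFun h2 1) 0
  have b11 := congrFun (congrFun h2 1) 1
  have b12 := congrFun (congrFun h2 1) 2
  have b20 := congrFun (congrFun h2 2) 0
  simp [mul_diagonal, diagonal_mul] at a01 a02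
  simp [P3, mul_apply, Fin.sum_univ_three] at b00 b01 b02 b10 b11 b12 b20
  have c1 : M 0 1 = 0 := mul_left_cancel₀ n1 (by linear_combination a01)
  have c2 : M 0 2 = 0 := mul_left_cancel₀ n2 (by linear_combination a02)
  refine ⟨M 0 0, ?_⟩
  ext i j
  fin_cases i <;> fin_cases j <;> simp <;> grind

theorem mem_norm [Finite R] {s t : GL (Fin 3) F} (hs : s ∈ R) (ht : t ∈ R)
    (h1 : y.1 * a.1 = s.1 * y.1) (h2 : y.1 * b.1 = t.1 * y.1) :
    y ∈ Subgroup.normalizer (R : Set (GL (Fin 3) F)) := by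
  have : R ≤ R.comap (MulAut.conj y).toMonoidHom := by
    nth_rw 1 [h.eq]
    rw [Subgroup.closure_le]
    rintro _ (rfl | rfl)
    · change y * _ * y⁻¹ ∈ R
      rwa [mul_inv_eq_iff_eq_mul.2 (Units.ext h1 : y * _ = s * y)]
    · change y * _ * y⁻¹ ∈ R
      rwa [mul_inv_eq_iff_eq_mul.2 (Units.ext h2 : y * _ = t * y)]
  exact mem_normalizer fun s hs => this hs

theorem exists_diag {s t : F} (hs : s ^ 3 = 1) (ht : t ^ 3 = 1) :
    ∃ d ∈ R, d.1 = diagonal ![s, s * t, s * t ^ 2] := by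
  obtain ⟨i, hi⟩ : ∃ i : ℕ, s = μ ^ i := by
    rcases cube_cases h.hμ hs with e | e | e
    exacts [⟨0, by simpa using e⟩, ⟨1, by simpa using e⟩, ⟨2, e⟩]
  obtain ⟨j, hj⟩ : ∃ i : ℕ, t = μ ^ i := by
    rcases cube_cases h.hμ ht with e | e | e
    exacts [⟨0, by simpa using e⟩, ⟨1, by simpa using e⟩, ⟨2, e⟩]
  refine ⟨z ^ i * a ^ j, mul_mem (pow_mem h.zmem i) (pow_mem h.amem j), ?_⟩
  rw [Units.val_mul, Units.val_pow_eq_pow_val, Units.val_pow_eq_pow_val, h.hz, h.ha, smul_pow,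
    one_pow, diagonal_pow, smul_mul_assoc, one_mul, ← diagonal_smul]
  congr 1
  ext k
  fin_cases k <;> simp [hi, hj, ← pow_mul, mul_comm]

theorem diag_mem [Finite R] {v : Fin 3 → F} {c : F} (hc : c ≠ 0) (hv : ∀ i, v i ^ 3 = c)
    (hy : y.1 = diagonal v) : y ∈ Subgroup.normalizer (R : Set (GL (Fin 3) F)) := by
  have h0 : ∀ i, v i ≠ 0 := fun i e => hc (by rw [← hv i, e]; simp)
  have h00 := h0 0
  have h01 := h0 1
  have h02 := h0 2
  have e0 := hv 0
  have e1 := hv 1
  have e2 := hv 2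
  obtain ⟨d, hd, e⟩ := h.exists_diag (s := v 0 / v 2) (t := v 1 * v 2 / v 0 ^ 2)
    (by field_simp; linear_combination e0 - e2)
    (by field_simp; linear_combination v 2 ^ 3 * (e1 - e0) + v 0 ^ 3 * (e2 - e0))
  refine h.mem_norm h.amem (mul_mem hd h.bmem) ?_ ?_
  · rw [hy, h.ha, diagonal_mul_diagonal, diagonal_mul_diagonal]; simp [mul_comm]
  · rw [hy, Units.val_mul, e, h.hb]
    ext i j
    fin_cases i <;> fin_cases j <;> simp [P3, mul_apply, Fin.sum_univ_three, diagonal_apply] <;>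
      field_simp
    linear_combination e0 - e1

theorem swap_mem [Finite R] (hy : y.1 = !![1, 0, 0; 0, 0, 1; 0, 1, 0]) :
    y ∈ Subgroup.normalizer (R : Set (GL (Fin 3) F)) := by
  refine h.mem_norm (mul_mem h.amem h.amem) (mul_mem h.bmem h.bmem) ?_ ?_
  · rw [hy, Units.val_mul, h.ha]
    ext i j
    fin_cases i <;> fin_cases j <;> simp [mul_apply, Fin.sum_univ_three, diagonal_apply]
    · linear_combination
    · linear_combination -μ * h.cube
  · rw [hy, Units.val_mul, h.hb]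
    ext i j
    fin_cases i <;> fin_cases j <;> simp [P3, mul_apply, Fin.sum_univ_three]

end Std3

end Cfsg.Lib.C6
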