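import Cfsg.Agent.Lib.C6.Three

/-! Elements of prime order normalising an extraspecial group of order 27 in `GL₃`. -/

namespace Cfsg.Lib.C6
open Matrix Cfsg.Lib.GLC Cfsg.Lib.Unitary Cfsg.Geo Module
open scoped MatrixGroups

variable {ι F : Type*} [Fintype ι] [DecidableEq ι] [Field F]

theorem sim_smul {A B : Matrix ι ι F} (h : Sim (toLin' A) (toLin' B)) (c : F) :
    Sim (toLin' (c • A)) (toLin' (c • B)) := by
  rw [map_smul, map_smul]; exact h.smul c

theorem det_eq_of_sim {A B : Matrix ι ι F} (h : Sim (toLin' A) (toLin' B)) : A.det = B.det := by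
  simpa using h.det_eq

theorem exists_blocks_invol (h2 : (2 : F) ≠ 0) {A : Matrix ι ι F} (h : A * A = 1)
    (hA : ∀ z : F, A ≠ z • 1) : ∃ a b, a + b = Fintype.card ι ∧ a ≠ 0 ∧ b ≠ 0 ∧
      A.det = (-1) ^ b ∧ Blocks (toLin' A) (lt (.replicate a 1 + .replicate b (-1))) := by
  obtain ⟨a, b, e, hb⟩ := exists_lt_two h2 (f := toLin' A)
    (by rw [← toLin'_pow', pow_two, h, toLin'_one]; rfl)
  refine ⟨a, b, by simpa using e, ?_, ?_, by simpa using hb.lt_det, hb⟩
  · rintro rfl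
    exact hA (-1) (toLin'_eq_smul_one_iff.1 (hb.lt_eq_smul_iff.2
      (by simp +contextual [Multiset.mem_replicate])))
  · rintro rfl
    exact hA 1 (toLin'_eq_smul_one_iff.1 (hb.lt_eq_smul_iff.2
      (by simp +contextual [Multiset.mem_replicate])))

/-- Non-scalar involutions of determinant 1 in dimension at most 4 are similar. -/
theorem sim_of_invol (h2 : (2 : F) ≠ 0) (hn : Fintype.card ι ≤ 4) {A B : Matrix ι ι F}
    (hA : A * A = 1) (hB : B * B = 1) (hA' : ∀ z : F, A ≠ z • 1) (hB' : ∀ z : F, B ≠ z • 1)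
    (dA : A.det = 1) (dB : B.det = 1) : Sim (toLin' A) (toLin' B) := by
  have key : ∀ {A : Matrix ι ι F}, A * A = 1 → (∀ z : F, A ≠ z • 1) → A.det = 1 →
      Blocks (toLin' A) (lt (.replicate (Fintype.card ι - 2) 1 + .replicate 2 (-1))) := by
    intro A hA hA' dA
    obtain ⟨a, b, e, ha, hb, hd, h⟩ := exists_blocks_invol h2 hA hA'
    have : Even b := by
      by_contra ho
      rw [dA, (Nat.not_even_iff_odd.1 ho).neg_one_pow] at hd
      exact h2 (by linear_combination hd)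
    obtain rfl : b = 2 := by obtain ⟨k, rfl⟩ := this; omega
    rwa [show Fintype.card ι - 2 = a by omega]
  exact (key hA hA' dA).sim (key hB hB' dB)

theorem mem_GU_of_norm {q n : ℕ} [NeZero n] {σ : F →+* F} (hσ : IsBar q σ)
    {R : Subgroup (GL (Fin n) F)} (hS : Schur R) (hR : R ≤ GU n F q) {y : GL (Fin n) F}
    (hy : y ∈ Subgroup.normalizer (R : Set (GL (Fin n) F))) (hd : y.1.det = 1)
    (hc : n.Coprime (q - 1)) : y ∈ GU n F q := by
  obtain ⟨l, hl⟩ := ct_mul_self hS (fun s hs => hσ.mem_GU_ct.1 (hR hs)) hy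
  have h0 := ne_zero_of_eq_smul hl
  have h1 : l ^ n = 1 := by
    have := congrArg det hl
    rw [Units.val_mul, det_mul, ctGL_coe, det_ct, hd, det_smul] at this
    simpa using this.symm
  have h2 : σ l = l := by
    have := congrArg (ct σ) hl
    rw [Units.val_mul, ct_mul, ctGL_coe, hσ.ct_ct, ct_smul, ct_one] at this
    exact smul_one_inj (ι := Fin n) (this.symm.trans hl)
  have := pow_gcd_eq_one.2 ⟨h1, (hσ.fixed_iff h0).1 h2⟩
  rw [hc, pow_one] at this
  rw [this, one_smul] at hl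
  exact hσ.mem_GU_ct.2 (eq_inv_of_mul_eq_one_left (Units.ext hl))

/-- What is used about an extraspecial group of order 27 in `GL₃`. -/
structure N27 (R : Subgroup (GL (Fin 3) F)) : Prop where
  schur : Schur R
  det_eq : ∀ s ∈ R, s.1.det = 1
  diag : ∀ (v : Fin 3 → F) (c : F), c ≠ 0 → (∀ i, v i ^ 3 = c) →
    ∃ h ∈ Subgroup.normalizer (R : Set (GL (Fin 3) F)), Sim (toLin' h.1) (toLin' (diagonal v))
  swap : ∃ h ∈ Subgroup.normalizer (R : Set (GL (Fin 3) F)),
    Sim (toLin' h.1) (toLin' !![1, 0, 0; 0, 0, 1; 0, 1, 0])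

theorem n27 [Finite F] (h3 : 3 ∣ Nat.card F - 1) {R : Subgroup (GL (Fin 3) F)}
    (hR : Nat.card R = 27) (he : Monoid.exponent R = 3) (hna : ¬ IsMulCommutative R) : N27 R := by
  obtain ⟨G, μ, a, b, z, h⟩ := exists_std3 h3 hR he hna
  have hm : ∀ s ∈ R, G⁻¹ * s * G ∈ R.map (MulAut.conj G⁻¹).toMonoidHom := fun s hs =>
    ⟨s, hs, by simp⟩
  have hn : ∀ y ∈ Subgroup.normalizer (R.map (MulAut.conj G⁻¹).toMonoidHom : Set (GL (Fin 3) F)),
      G * y * G⁻¹ ∈ Subgroup.normalizer (R : Set (GL (Fin 3) F)) := by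
    intro y hy
    refine mem_normalizer fun s hs => ?_
    obtain ⟨t, ht, e⟩ := conj_mem hy (hm s hs)
    have : G * y * G⁻¹ * s * (G * y * G⁻¹)⁻¹ = G * (y * (G⁻¹ * s * G) * y⁻¹) * G⁻¹ := by group
    rw [this, ← e]; simpa [mul_assoc] using ht
  refine ⟨fun M hM => ?_, fun s hs => ?_, fun v c hc hv => ?_, ?_⟩
  · obtain ⟨c, hc⟩ := h.schur ((G⁻¹).1 * M * G.1) (by
      rintro _ ⟨s, hs, rfl⟩
      simp [mul_assoc, ← hM s hs]
      rw [← mul_assoc s.1, ← hM s hs, mul_assoc])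
    refine ⟨c, ?_⟩
    have : M = G.1 * ((G⁻¹).1 * M * G.1) * (G⁻¹).1 := by simp [mul_assoc]
    rw [this, hc]; simp
  · have := h.det_eq (hm s hs)
    rwa [Units.val_mul, Units.val_mul, det_mul_comm, ← mul_assoc, Units.mul_inv, one_mul] at this
  · have h0 : (diagonal v).det ≠ 0 := by
      rw [det_diagonal]
      exact Finset.prod_ne_zero_iff.2 fun i _ e => hc (by rw [← hv i, e]; simp)
    exact ⟨_, hn _ (h.diag_mem hc hv (y := GeneralLinearGroup.mkOfDetNeZero _ h0) rfl),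
      sim_conj _ _⟩
  · have h0 : (!![1, 0, 0; 0, 0, 1; 0, 1, 0] : Matrix (Fin 3) (Fin 3) F).det ≠ 0 := by
      simp [det_fin_three]
    exact ⟨_, hn _ (h.swap_mem (y := GeneralLinearGroup.mkOfDetNeZero _ h0) rfl), sim_conj _ _⟩

namespace N27
variable {R : Subgroup (GL (Fin 3) F)} (h : N27 R) {x : GL (Fin 3) F}
include h

theorem two (h2 : (2 : F) ≠ 0) (hd : x.1.det = 1) (hx : Sc (x ^ 2)) (hx' : ¬ Sc x) :
    ∃ y ∈ Subgroup.normalizer (R : Set (GL (Fin 3) F)), Sim (toLin' y.1) (toLin' x.1) := by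
  obtain ⟨z, hz⟩ := hx
  have h0 := ne_zero_of_eq_smul hz
  rw [Units.val_pow_eq_pow_val, pow_two] at hz
  have hz3 : z ^ 3 = 1 := by
    have := congrArg det hz
    rw [det_mul, hd, det_smul] at this
    simpa using this.symm
  obtain ⟨y, hy, e⟩ := h.swap
  have e1 : Sim (toLin' ((-1 : F) • !![1, 0, 0; 0, 0, 1; 0, 1, 0])) (toLin' (z • x.1)) := by
    refine sim_of_invol h2 (by simp) ?_ ?_ (fun c hc => ?_) (fun c hc => hx' ⟨z⁻¹ * c, ?_⟩) ?_ ?_
    · ext i j; fin_cases i <;> fin_cases j <;> simp [mul_apply, Fin.sum_univ_three]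
    · rw [smul_mul_smul_comm, hz, smul_smul, show z * z * z = 1 by linear_combination hz3, one_smul]
    · simpa using congrFun (congrFun hc 1) 2
    · rw [mul_smul, ← hc, smul_smul, inv_mul_cancel₀ h0, one_smul]
    · simp [det_fin_three]
    · rw [det_smul, hd]; simpa using hz3
  refine ⟨smulGL (z⁻¹ * -1) (by simpa) y, mem_normalizer_of_smul hy rfl, ?_⟩
  have := sim_smul ((sim_smul e (-1)).trans e1) z⁻¹
  rwa [smul_smul, smul_smul, inv_mul_cancel₀ h0, one_smul] at this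

theorem three [Finite F] (h3 : 3 ∣ Nat.card F - 1) {c : F} (hx : (x ^ 3).1 = c ^ 3 • 1) :
    ∃ y ∈ Subgroup.normalizer (R : Set (GL (Fin 3) F)), Sim (toLin' y.1) (toLin' x.1) := by
  have h0 := ne_zero_of_eq_smul hx
  obtain ⟨v, hv, e⟩ := exists_diag_sim h3 (c := c) (fun e => h0 (by simp [e])) (M := x.1) hx
  obtain ⟨y, hy, e'⟩ := h.diag v _ h0 hv
  exact ⟨y, hy, e'.trans e⟩

theorem prime_cases (hR : Nat.card R = 27) (hna : ¬ IsMulCommutative R) {r : ℕ} [hr : Fact r.Prime]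
    (hx : x ∈ Subgroup.normalizer (R : Set (GL (Fin 3) F))) (h1 : Sc (x ^ r)) (h2 : ¬ Sc x) :
    r = 2 ∨ r = 3 := by
  haveI : Finite R := Nat.finite_of_card_ne_zero (by omega)
  have e1 := card_modEq hx h1
  have e2 := card_center_dvd h.schur x
  have e3 := card_cent_lt h.schur h2
  have e4 := Subgroup.card_dvd_of_le (inf_le_left : R ⊓ Subgroup.centralizer {x} ≤ R)
  rw [(card_center_of_27 hR hna).1] at e2
  rw [hR] at e1 e3 e4
  generalize Nat.card ↥(R ⊓ Subgroup.centralizer {x}) = k at *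
  have : r ∣ 2 ^ 3 * 3 ^ 2 := by
    have := (Nat.modEq_iff_dvd' e3.le).1 e1.symm
    interval_cases k <;> first | omega | exact this.trans (by norm_num)
  rcases (Nat.Prime.dvd_mul hr.out).1 this with e | e
  · exact .inl ((Nat.prime_dvd_prime_iff_eq hr.out Nat.prime_two).1 (hr.out.dvd_of_dvd_pow e))
  · exact .inr ((Nat.prime_dvd_prime_iff_eq hr.out Nat.prime_three).1 (hr.out.dvd_of_dvd_pow e))

end N27

end Cfsg.Lib.C6
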