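import Cfsg.Agent.Lib.C6.Three2
import Cfsg.Agent.Lib.Extraspecial.Hall

/-! Absolutely irreducible 2-groups of symplectic type in dimension 4: which elements of prime
order can not normalise them. -/

namespace Cfsg.Lib.C6
open Matrix Cfsg.Lib.GLC Cfsg.Geo
open scoped MatrixGroups

variable {ι F : Type*} [Fintype ι] [DecidableEq ι] [Field F]

/-- A 2-group of symplectic type in dimension 4. -/
structure St (R : Subgroup (GL ι F)) : Prop where
  fin : Finite R
  two : (2 : F) ≠ 0
  four : Fintype.card ι = 4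
  schur : Schur R
  sq : ∀ s ∈ R, s.1 * s.1 = 1 ∨ s.1 * s.1 = -1

theorem St.of {ι : Type} [Fintype ι] [DecidableEq ι] {R : Subgroup (GL ι F)} [Finite R]
    (h2 : (2 : F) ≠ 0) (h4 : Fintype.card ι = 4) (hs : IsSymplecticTypeGroup 2 R)
    (hi : ActsAbsolutelyIrreducibly (matrixSet R)) : St R := by
  haveI : Nonempty ι := Fintype.card_pos_iff.1 (by omega)
  have hS := schur_of_absIrr hi
  refine ⟨‹_›, h2, h4, hS, fun s hs' => ?_⟩
  have := ES.sq_mem_omegaOne_center hs.pGroup hs.cyclic_of_characteristic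
    (fun x => by have := Monoid.pow_exponent_eq_one x; rwa [hs.exponent_eq] at this) ⟨s, hs'⟩
  have key : ∀ t ∈ omegaOne 2 (Subgroup.center R), t.1.1 = 1 ∨ t.1.1 = -1 := by
    intro t ht
    induction ht using Subgroup.closure_induction with
    | mem t ht =>
      obtain ⟨c, hc⟩ := (mem_center_iff hS).1 ht.1
      have h1 : t.1.1 * t.1.1 = 1 := by rw [← pow_two]; exact congrArg (fun u : R => u.1.1) ht.2
      rw [hc, smul_mul_smul_comm, one_mul] at h1
      rcases mul_self_eq_one_iff.1 (smul_one_inj (h1.trans (one_smul _ _).symm)) with e | e <;>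
        simp [hc, e]
    | one => exact .inl rfl
    | mul t u _ _ ht hu =>
      rw [Subgroup.coe_mul, Units.val_mul]
      rcases ht with e | e <;> rcases hu with e' | e' <;> simp [e, e']
    | inv t _ ht =>
      have := t.1.inv_mul
      rcases ht with e | e <;> rw [e] at this
      · exact .inl (by simpa using this)
      · exact .inr (by simpa [neg_eq_iff_eq_neg] using this)
  simpa [pow_two] using key _ this

theorem trace_eq_zero_of_anti (h2 : (2 : F) ≠ 0) {s : GL ι F} {M : Matrix ι ι F}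
    (h : s.1 * M = -(M * s.1)) : M.trace = 0 := by
  have : M.trace = -M.trace := by
    calc M.trace = (s.1 * M * (s⁻¹).1).trace := by
          rw [trace_mul_comm, ← mul_assoc, Units.inv_mul, one_mul]
      _ = _ := by rw [h, neg_mul, mul_assoc, Units.mul_inv, mul_one, trace_neg]
  exact mul_left_cancel₀ h2 (by linear_combination this)

namespace St
variable {R : Subgroup (GL ι F)} (h : St R) {s t g y : GL ι F}
include h

theorem nonempty : Nonempty ι := Fintype.card_pos_iff.1 (by rw [h.four]; norm_num)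

theorem comm_or (hs : s ∈ R) (ht : t ∈ R) : s.1 * t.1 = t.1 * s.1 ∨ s.1 * t.1 = -(t.1 * s.1) := by
  have e : s.1 * (s.1 * t.1 * (s.1 * t.1)) * t.1 = s.1 * s.1 * (t.1 * s.1) * (t.1 * t.1) := by
    simp only [mul_assoc]
  have h3 := h.sq _ (mul_mem hs ht)
  rw [Units.val_mul] at h3
  rcases h.sq s hs with h1 | h1 <;> rcases h.sq t ht with h2 | h2 <;> rcases h3 with h3 | h3 <;>
    rw [h1, h2, h3] at e <;> simp [neg_eq_iff_eq_neg] at e <;> simp [e]

theorem ne_neg (s : GL ι F) : s.1 ≠ -s.1 := fun e => by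
  haveI := h.nonempty
  refine s.ne_zero ?_
  have : (2 : F) • s.1 = 0 := by rw [two_smul]; exact add_eq_zero_iff_eq_neg.2 e
  exact (smul_eq_zero.1 this).resolve_left h.two

theorem exists_anti (hs : s ∈ R) (h1 : ¬ Sc s) : ∃ t ∈ R, t.1 * s.1 = -(s.1 * t.1) := by
  by_contra! h2
  exact h1 (h.schur _ fun t ht => ((h.comm_or ht hs).resolve_right (h2 t ht)).symm)

theorem not_sc_of_anti (e : t.1 * s.1 = -(s.1 * t.1)) : ¬ Sc s := fun hs =>
  h.ne_neg (s * t) (by rw [Units.val_mul, ← e]; exact congrArg Units.val (hs.comm t))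

theorem trace_eq_zero (hs : s ∈ R) (h1 : ¬ Sc s) : s.1.trace = 0 :=
  let ⟨_, _, e⟩ := h.exists_anti hs h1
  trace_eq_zero_of_anti h.two e

theorem trace_one' : (1 : Matrix ι ι F).trace = 4 := by rw [trace_one, h.four]; norm_num

theorem four_ne : (4 : F) ≠ 0 := fun e => h.two (mul_self_eq_zero.1 (by linear_combination e))

theorem commute_of_sc (ht : t ∈ R) (h1 : Sc (g * t * g⁻¹ * t⁻¹)) {k : ℕ} (hk : Odd k)
    (h2 : Sc (g ^ k)) : g * t = t * g := by
  haveI := h.nonempty
  set c := g * t * g⁻¹ * t⁻¹ with hc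
  have e : g * t * g⁻¹ = c * t := by rw [hc]; group
  clear_value c
  have ht2 : Sc (t * t) := by
    rcases h.sq t ht with e | e
    exacts [⟨1, by simpa using e⟩, ⟨-1, by simpa using e⟩]
  have e2 : c * c = 1 := by
    have : g * (t * t) * g⁻¹ = c * c * (t * t) := by
      calc g * (t * t) * g⁻¹ = g * t * g⁻¹ * (g * t * g⁻¹) := by group
        _ = c * (t * c) * t := by rw [e]; group
        _ = _ := by rw [← h1.comm t]; group
    rw [← ht2.comm g, mul_inv_cancel_right] at this
    exact (mul_eq_right.1 this.symm)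
  have e3 : ∀ n : ℕ, g ^ n * t * (g ^ n)⁻¹ = c ^ n * t := by
    intro n
    induction n with
    | zero => simp
    | succ n ih =>
      calc g ^ (n + 1) * t * (g ^ (n + 1))⁻¹ = g * (g ^ n * t * (g ^ n)⁻¹) * g⁻¹ := by group
        _ = c ^ n * (g * t * g⁻¹) := by rw [ih, ← mul_assoc, ← (h1.pow n).comm g]; group
        _ = _ := by rw [e]; group
  have e4 := e3 k
  rw [h2.comm, mul_inv_cancel_right] at e4
  obtain ⟨m, rfl⟩ := hk
  rw [pow_succ, pow_mul, pow_two, e2, one_pow, one_mul] at e4
  rw [← e4] at e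
  exact mul_inv_eq_iff_eq_mul.1 e

/-- The trace formula `n² |C_R(y)| = |R| tr(y) tr(y⁻¹)`. -/
theorem trace_formula (hy : y ∈ Subgroup.normalizer (R : Set (GL ι F))) {k : ℕ} (hk : Odd k)
    (h2 : Sc (y ^ k)) : 16 * (Nat.card ↥(R ⊓ Subgroup.centralizer {y}) : F) =
      Nat.card R * (y.1.trace * (y⁻¹).1.trace) := by
  classical
  haveI := h.fin
  haveI := Fintype.ofFinite R
  obtain ⟨c, hc⟩ := h.schur (∑ s : R, (s.1 * y * s.1⁻¹).1) fun t ht => by
    rw [Finset.sum_mul, Finset.mul_sum, ← Equiv.sum_comp (Equiv.mulLeft (⟨t, ht⟩ : R))]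
    refine Finset.sum_congr rfl fun s _ => ?_
    rw [← Units.val_mul, ← Units.val_mul]
    congr 1
    simp only [Equiv.coe_mulLeft, Subgroup.coe_mul]
    group
  have e1 : (Nat.card R : F) * y.1.trace = 4 * c := by
    have := congrArg trace hc
    rw [trace_sum, trace_smul, h.trace_one'] at this
    simp only [Units.val_mul, trace_units_conj, Finset.sum_const, Finset.card_univ] at this
    rw [Nat.card_eq_fintype_card, ← nsmul_eq_mul, this, smul_eq_mul, mul_comm]
  have e2 : ∑ s : R, (s.1 * y * s.1⁻¹ * y⁻¹).1.trace = c * (y⁻¹).1.trace := by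
    have := congrArg (fun M => (M * (y⁻¹).1).trace) hc
    simpa only [Finset.sum_mul, trace_sum, smul_mul_assoc, one_mul, trace_smul, smul_eq_mul,
      ← Units.val_mul] using this
  have e3 : ∀ s : R, (s.1 * y * s.1⁻¹ * y⁻¹).1.trace =
      if s.1 ∈ Subgroup.centralizer {y} then 4 else 0 := by
    intro s
    split_ifs with hs
    · rw [Subgroup.mem_centralizer_singleton_iff.1 hs, mul_inv_cancel_right, mul_inv_cancel]
      exact h.trace_one'
    · refine h.trace_eq_zero (by
        simpa only [mul_assoc] using mul_mem s.2 (conj_mem hy (inv_mem s.2))) fun h1 => hs ?_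
      have := h1.inv
      rw [show (s.1 * y * s.1⁻¹ * y⁻¹)⁻¹ = y * s.1 * y⁻¹ * s.1⁻¹ by group] at this
      exact Subgroup.mem_centralizer_singleton_iff.2 (h.commute_of_sc s.2 this hk h2).symm
  have e4 : Nat.card ↥(R ⊓ Subgroup.centralizer {y}) =
      (Finset.univ.filter fun s : R => s.1 ∈ Subgroup.centralizer {y}).card := by
    rw [← Fintype.card_subtype, ← Nat.card_eq_fintype_card]
    exact Nat.card_congr
      { toFun := fun s => ⟨⟨s.1, s.2.1⟩, s.2.2⟩
        invFun := fun s => ⟨s.1.1, s.1.2, s.2⟩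
        left_inv := fun _ => rfl
        right_inv := fun _ => rfl }
  simp only [e3, ← Finset.sum_filter, Finset.sum_const, nsmul_eq_mul] at e2
  rw [e4]
  linear_combination 4 * e2 - (y⁻¹).1.trace * e1

/-- An element of order 5 with quadratic minimal polynomial does not normalise `R`. -/
theorem not_quad (hy : y ∈ Subgroup.normalizer (R : Set (GL ι F))) (h5 : y ^ 5 = 1) {θ : F}
    (hq : y.1 * y.1 = θ • y.1 - 1) : Sc y := by
  refine h.schur.sc fun t ht => ?_
  by_contra hne
  have key : ∀ k m n : ℕ, k * m = 5 * n + 1 → ((y ^ k * t * (y ^ k)⁻¹ * t⁻¹).1).trace = 0 := by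
    intro k m n e
    refine h.trace_eq_zero (mul_mem (conj_mem (pow_mem hy k) ht) (inv_mem ht)) fun h1 => hne ?_
    have : Commute (y ^ k) t := h.commute_of_sc ht h1 (k := 5) (by decide)
      (by rw [← pow_mul, mul_comm, pow_mul, h5, one_pow]; exact sc_one)
    have := this.pow_left m
    rwa [← pow_mul, e, pow_succ, pow_mul, h5, one_pow, one_mul] at this
  have k1 := key 1 1 0 rfl
  have k2 := key 2 3 1 rfl
  have k3 := key 3 2 1 rfl
  have i1 : (y⁻¹).1 = θ • 1 - y.1 := by
    refine (Units.inv_eq_of_mul_eq_one_right ?_)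
    rw [mul_sub, mul_smul_comm, mul_one, hq]; simp
  have hq' : ∀ M, y.1 * (y.1 * M) = θ • (y.1 * M) - M := fun M => by
    rw [← mul_assoc, hq, sub_mul, smul_mul_assoc, one_mul]
  have e : (y ^ 3 * t * (y ^ 3)⁻¹ * t⁻¹).1 - (θ ^ 2 - 1) • (y ^ 2 * t * (y ^ 2)⁻¹ * t⁻¹).1 +
      (θ ^ 2 - 1) • (y ^ 1 * t * (y ^ 1)⁻¹ * t⁻¹).1 = t.1 * (t⁻¹).1 := by
    simp only [_root_.mul_inv_rev, pow_succ, pow_zero, one_mul, Units.val_mul, i1, mul_assoc, mul_sub,
      sub_mul, smul_mul_assoc, mul_smul_comm, hq', smul_sub]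
    module
  have := congrArg trace e
  rw [trace_add, trace_sub, trace_smul, trace_smul, k1, k2, k3, Units.mul_inv, h.trace_one'] at this
  exact h.four_ne (by simpa using this.symm)

/-- A transvection does not normalise `R`. -/
theorem not_tv (hy : y ∈ Subgroup.normalizer (R : Set (GL ι F))) {k : ℕ} (hk : Odd k)
    (h1 : Sc (y ^ k)) {N : Matrix ι ι F} (e : y.1 = 1 + N) (hN : N * N = 0)
    (hr : ∀ M, N * (M * N) = (N * M).trace • N) : Sc y := by
  refine h.schur.sc fun s hs => h.commute_of_sc hs ?_ hk h1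
  by_contra hne
  have hm := mul_mem (conj_mem hy hs) (inv_mem hs)
  have i1 : (y⁻¹).1 = 1 - N := by
    refine (Units.inv_eq_of_mul_eq_one_right ?_)
    rw [e, add_mul, mul_sub, mul_sub, hN]; simp
  set N' := s.1 * N * (s⁻¹).1 with hN'
  have e1 : (y * s * y⁻¹ * s⁻¹).1 = (1 + N) * (1 - N') := by
    simp only [Units.val_mul, e, i1, hN', mul_assoc, mul_sub, sub_mul, one_mul, Units.mul_inv]
  have tN : N.trace = 0 := by
    by_contra h0
    have := hr 1
    rw [one_mul, mul_one, hN] at this
    exact h0 (by rw [(smul_eq_zero.1 this.symm).resolve_left h0, trace_zero])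
  have tN' : N'.trace = 0 := by rw [hN', trace_units_conj, tN]
  set β := (N * N').trace with hβ
  have h4 : β = 4 := by
    have := h.trace_eq_zero hm hne
    rw [e1] at this
    simp only [add_mul, mul_sub, one_mul, mul_one, trace_add, trace_sub, tN, tN', h.trace_one']
      at this
    linear_combination -this
  have r1 : N * (N' * N) = β • N := hr N'
  have r1' : ∀ M, N * (N' * (N * M)) = β • (N * M) := fun M => by
    rw [← smul_mul_assoc, ← r1]; simp only [mul_assoc]
  have n1 : ∀ M, N * (N * M) = 0 := fun M => by rw [← mul_assoc, hN, zero_mul]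
  have n2 : ∀ M, N' * (N' * M) = 0 := fun M => by
    simp only [hN', mul_assoc, Units.inv_mul_cancel_left, n1, mul_zero]
  have e2 : N * ((1 + N) * (1 - N') * ((1 + N) * (1 - N'))) * N = (β * (β - 2)) • N := by
    simp only [mul_add, add_mul, mul_sub, sub_mul, one_mul, mul_one, mul_assoc, r1, r1', n1, n2,
      hN, mul_zero, mul_smul_comm, smul_zero, smul_mul_assoc, zero_mul]
    module
  have e3 : (β * (β - 2)) • N = 0 := by
    rw [← e2, ← e1]
    rcases h.sq _ hm with h2 | h2 <;> rw [h2] <;> simp [hN]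
  have hN0 : N = 0 := (smul_eq_zero.1 e3).resolve_left (by
    rw [h4]; exact mul_ne_zero h.four_ne fun e => h.two (by linear_combination e))
  exact hne ⟨1, by rw [e1, hN', hN0]; simp⟩

theorem relIndex_cent (hs : s ∈ R) (h1 : ¬ Sc s) : (Subgroup.centralizer {s}).relIndex R = 2 := by
  obtain ⟨t, ht, e⟩ := h.exists_anti hs h1
  refine Subgroup.index_eq_two_iff.2 ⟨⟨t, ht⟩, fun b => ?_⟩
  simp only [Subgroup.mem_subgroupOf, Subgroup.mem_centralizer_singleton_iff, Subgroup.coe_mul,
    ← Units.val_inj, Units.val_mul]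
  rcases h.comm_or b.2 hs with h2 | h2
  · refine .inr ⟨h2, fun h3 => h.ne_neg (s * b.1 * t) ?_⟩
    rw [mul_assoc b.1.1, e, mul_neg, ← mul_assoc, h2] at h3
    simpa only [Units.val_mul, mul_assoc] using h3.symm
  · refine .inl ⟨?_, fun h3 => h.ne_neg (s * b.1) (by rw [Units.val_mul, ← h2, h3])⟩
    rw [mul_assoc, e, mul_neg, ← mul_assoc, h2, neg_mul, neg_neg, mul_assoc]

theorem card_inf_cent (hs : s ∈ R) (h1 : ¬ Sc s) :
    Nat.card ↥(R ⊓ Subgroup.centralizer {s}) * 2 = Nat.card R := by
  rw [← h.relIndex_cent hs h1, ← Subgroup.inf_relIndex_left, ← Nat.card_congr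
    (Subgroup.subgroupOfEquivOfLe (inf_le_left : R ⊓ Subgroup.centralizer {s} ≤ R)).toEquiv]
  exact Subgroup.card_mul_index _

/-- The order of the centraliser in `R` of an element of odd prime order. -/
theorem cent_cases {m : ℕ} (hm : m = 2 ∨ m = 4) (hZ : Nat.card (Subgroup.center R) = m)
    (hR : Nat.card R = 16 * m) (hy : y ∈ Subgroup.normalizer (R : Set (GL ι F))) {r : ℕ}
    [hr : Fact r.Prime] (h1 : Sc (y ^ r)) (h2 : ¬ Sc y) :
    r = 2 ∨ r = 5 ∨ r = 3 ∧ (Nat.card ↥(R ⊓ Subgroup.centralizer {y}) = m ∨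
      Nat.card ↥(R ⊓ Subgroup.centralizer {y}) = 4 * m) := by
  haveI := h.fin
  have hfin : ∀ K : Subgroup (GL ι F), K ≤ R → Finite K := fun K hK =>
    Finite.of_injective _ (Subgroup.inclusion_injective hK)
  have e1 := card_modEq hy h1
  have e2 := card_center_dvd h.schur y
  have e3 := card_cent_lt h.schur h2
  have e4 := Subgroup.card_dvd_of_le (inf_le_left : R ⊓ Subgroup.centralizer {y} ≤ R)
  rw [hZ] at e2
  rw [hR] at e1 e3 e4
  have h7 : r = 7 → Nat.card ↥(R ⊓ Subgroup.centralizer {y}) ≠ 2 * m := by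
    rintro rfl hc
    have hZle : ∀ K : Subgroup (GL ι F), (∀ t ∈ R, Sc t → t ∈ K) →
        (Subgroup.center R).map R.subtype ≤ K := by
      rintro K hK _ ⟨t, ht, rfl⟩
      exact hK _ t.2 ((mem_center_iff h.schur).1 ht)
    have hZc : Nat.card ((Subgroup.center R).map R.subtype) = m := by
      rw [Subgroup.card_map_of_injective R.subtype_injective, hZ]
    obtain ⟨s, hs, hs'⟩ : ∃ s ∈ R ⊓ Subgroup.centralizer {y}, ¬ Sc s := by
      by_contra! h3
      haveI := hfin _ (Subgroup.map_subtype_le (Subgroup.center R))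
      have := Subgroup.card_le_of_le (show R ⊓ Subgroup.centralizer {y} ≤
        (Subgroup.center R).map R.subtype from fun t ht =>
          ⟨⟨t, ht.1⟩, (mem_center_iff h.schur).2 (h3 t ht), rfl⟩)
      omega
    have hys := Subgroup.mem_centralizer_singleton_iff.1 hs.2
    haveI := hfin (R ⊓ Subgroup.centralizer {s}) inf_le_left
    haveI := hfin (R ⊓ Subgroup.centralizer {s} ⊓ Subgroup.centralizer {y})
      (inf_le_left.trans inf_le_left)
    have f1 := card_modEq (R := R ⊓ Subgroup.centralizer {s}) (mem_normalizer fun t ht =>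
      ⟨conj_mem hy ht.1, Subgroup.mem_centralizer_singleton_iff.2 (by
        have := Subgroup.mem_centralizer_singleton_iff.1 ht.2
        calc y * t * y⁻¹ * s = y * (t * s) * y⁻¹ := by
              rw [mul_assoc, inv_mul_eq_iff_eq_mul.2 (show s = y * (s * y⁻¹) by
                rw [← mul_assoc, ← hys, mul_inv_cancel_right])]; group
          _ = _ := by rw [this, ← mul_assoc, ← hys]; group)⟩) h1
    have f2 := h.card_inf_cent hs.1 hs'
    have f3 := Subgroup.card_dvd_of_le (inf_le_inf_right _ inf_le_left :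
      R ⊓ Subgroup.centralizer {s} ⊓ Subgroup.centralizer {y} ≤ R ⊓ Subgroup.centralizer {y})
    have hle := hZle (R ⊓ Subgroup.centralizer {s} ⊓ Subgroup.centralizer {y}) fun t ht h3 =>
      ⟨⟨ht, Subgroup.mem_centralizer_singleton_iff.2 (h3.comm _)⟩,
        Subgroup.mem_centralizer_singleton_iff.2 (h3.comm _)⟩
    have f4 : m < Nat.card ↥(R ⊓ Subgroup.centralizer {s} ⊓ Subgroup.centralizer {y}) := by
      by_contra! h3
      obtain ⟨t, ht, e⟩ := (Subgroup.eq_of_le_of_card_ge hle (hZc ▸ h3)).ge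
        (show s ∈ R ⊓ Subgroup.centralizer {s} ⊓ Subgroup.centralizer {y} from
          ⟨⟨hs.1, Subgroup.mem_centralizer_singleton_iff.2 rfl⟩, hs.2⟩)
      exact hs' (e ▸ (mem_center_iff h.schur).1 ht)
    rw [hc] at f3
    rw [show Nat.card ↥(R ⊓ Subgroup.centralizer {s}) = 8 * m by omega] at f1
    generalize Nat.card ↥(R ⊓ Subgroup.centralizer {s} ⊓ Subgroup.centralizer {y}) = k at *
    have f5 := Nat.le_of_dvd (by omega) f3
    unfold Nat.ModEq at f1
    rcases hm with rfl | rfl <;> omega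
  generalize Nat.card ↥(R ⊓ Subgroup.centralizer {y}) = k at *
  have e5 := (Nat.modEq_iff_dvd' e3.le).1 e1.symm
  have e6 : r ≤ 7 := by
    have : r ∣ 2 ^ 5 * 3 * 5 * 7 := by
      rcases hm with rfl | rfl <;> interval_cases k <;>
        first | omega | exact e5.trans (by norm_num)
    simp only [hr.out.dvd_mul] at this
    rcases this with ((e | e) | e) | e
    · have := Nat.le_of_dvd (by norm_num) (hr.out.dvd_of_dvd_pow e); omega
    all_goals have := Nat.le_of_dvd (by norm_num) e; omega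
  have e7 := hr.out.two_le
  have e8 := hr.out
  interval_cases r
  · simp
  · rcases hm with rfl | rfl <;> interval_cases k <;> omega
  · exact absurd e8 (by norm_num)
  · simp
  · exact absurd e8 (by norm_num)
  · have := h7 rfl
    rcases hm with rfl | rfl <;> interval_cases k <;> omega

end St

end Cfsg.Lib.C6
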