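import Cfsg.Agent.Lib.C6.Two2
import Cfsg.Agent.Lib.Unitary.ElusC

/-! Similarity classes of elements of orders 2, 3, 5 in dimension 4 and the normaliser of a
2-group of symplectic type. -/

namespace Cfsg.Lib.C6
open Matrix Cfsg.Lib.GLC Cfsg.Geo Cfsg.Lib.Unitary Polynomial Module
open Cfsg.Lib.Symp (RF exists_finset_RF exists_typ_RF sum_natDegree_RF sim_of_irreducible)
open scoped MatrixGroups

variable {ι F : Type*} [Fintype ι] [DecidableEq ι] [Field F]

theorem trace_eq_of_sim {A B : Matrix ι ι F} (h : Sim (toLin' A) (toLin' B)) :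
    A.trace = B.trace := by
  obtain ⟨g, hg⟩ := isConj_iff_sim.2 h
  rw [← trace_units_conj g A, hg.eq, mul_assoc, Units.mul_inv, mul_one]

theorem trace_of_blocks {A : Matrix ι ι F} {M : Multiset F} (h : Blocks (toLin' A) (lt M)) :
    A.trace = M.sum := by
  obtain ⟨v, rfl⟩ := exists_univ_map_eq (n := ι) M (by rw [h.lt_card]; simp)
  rw [trace_eq_of_sim (h.sim (blocks_diagonal v)), trace_diagonal]; rfl

theorem invol_cases (h2 : (2 : F) ≠ 0) (hn : Fintype.card ι = 4) {A : Matrix ι ι F}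
    (hA : A * A = 1) (hA' : ∀ z : F, A ≠ z • 1) :
    A.det = 1 ∧ A.trace = 0 ∧ Blocks (toLin' A) (lt (.replicate 2 1 + .replicate 2 (-1))) ∨
    A.det = -1 ∧ A.trace = 2 ∧ Blocks (toLin' A) (lt (.replicate 3 1 + .replicate 1 (-1))) ∨
    A.det = -1 ∧ A.trace = -2 ∧ Blocks (toLin' A) (lt (.replicate 1 1 + .replicate 3 (-1))) := by
  obtain ⟨a, b, e, ha, hb, hd, h⟩ := exists_blocks_invol h2 hA hA'
  have ht := trace_of_blocks h
  obtain ⟨rfl, rfl⟩ | ⟨rfl, rfl⟩ | ⟨rfl, rfl⟩ : a = 2 ∧ b = 2 ∨ a = 3 ∧ b = 1 ∨ a = 1 ∧ b = 3 := by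
    omega
  · exact .inl ⟨by rw [hd]; norm_num, by rw [ht]; simp, h⟩
  · exact .inr (.inl ⟨by rw [hd]; norm_num, by rw [ht]; simp; norm_num, h⟩)
  · exact .inr (.inr ⟨by rw [hd]; norm_num, by rw [ht]; simp; norm_num, h⟩)

theorem sim_of_invol4 (h2 : (2 : F) ≠ 0) (hn : Fintype.card ι = 4) {A B : Matrix ι ι F}
    (hA : A * A = 1) (hB : B * B = 1) (hA' : ∀ z : F, A ≠ z • 1) (hB' : ∀ z : F, B ≠ z • 1)
    (h : A.trace = B.trace) : Sim (toLin' A) (toLin' B) := by
  have h4 : (2 : F) * 2 ≠ 0 := mul_ne_zero h2 h2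
  rcases invol_cases h2 hn hA hA' with a | a | a <;> rcases invol_cases h2 hn hB hB' with b | b | b <;>
    first
    | exact a.2.2.sim b.2.2
    | (rw [a.2.1, b.2.1] at h; grind)

/-- The eigenvalues are rational: every primitive `r`-th root of 1 has the same multiplicity. -/
def Rat (r : ℕ) (A : Matrix ι ι F) : Prop :=
  ∃ (S : Finset F[X]) (k m : ℕ), (∀ φ, φ ∈ S ↔ RF r φ) ∧
    typ (toLin' A) = .replicate k (X - C 1) + m • S.val

variable {r : ℕ} {A B : Matrix ι ι F}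

theorem rat_of_order [Finite F] (hr : r.Prime) (h0 : (r : F) ≠ 0)
    (ho : orderOf (Nat.card F : ZMod r) = r - 1) (h : A ^ r = 1) : Rat r A := by
  obtain ⟨S, hS, hc⟩ := exists_finset_RF hr h0
  obtain ⟨k, ν, hν, e⟩ := exists_typ_RF h0 (f := toLin' A) (by rw [← toLin'_pow', h, toLin'_one]; rfl)
  have := hr.two_le
  rw [ho] at hc
  obtain ⟨φ, rfl⟩ := Finset.card_eq_one.1 ((Nat.mul_eq_right (by omega)).1 hc)
  refine ⟨_, k, ν.card, hS, ?_⟩
  rw [e, Finset.singleton_val, Multiset.nsmul_singleton,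
    ← Multiset.eq_replicate_card.2 fun ψ h => Finset.mem_singleton.1 ((hS ψ).2 (hν ψ h))]

theorem rat_of_unitary {q i b c n : ℕ} {σ : F →+* F} (u : UP σ q r i b c) (hi : i % 4 ≠ 2)
    (hb : 2 * b = r - 1) {x : GL (Fin n) F} (hx : x ∈ GU n F q) (h : x.1 ^ r = 1) : Rat r x.1 := by
  classical
  haveI := u.bar.finite
  obtain ⟨S, hS, hc⟩ := u.exists_finset
  obtain ⟨k, ν, hν, e⟩ := exists_typ_RF u.ne (f := toLin' x.1)
    (by rw [← toLin'_pow', h, toLin'_one]; rfl)
  have hd := u.bar.typ_gu ⟨x, hx⟩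
  simp only [e, Multiset.map_add, Multiset.map_replicate, dual_X_sub_one, add_right_inj] at hd
  obtain ⟨τ, rfl⟩ := u.exists_eq_add_map hi hν hd
  have h2 : S.card = 2 := Nat.eq_of_mul_eq_mul_right u.b_pos (hc.trans hb.symm)
  refine ⟨S, k, τ.card, hS, e.trans ?_⟩
  congr 1
  replace hν : ∀ φ ∈ τ, RF r φ := fun φ h => hν φ (Multiset.mem_add.2 (.inl h))
  clear e hd
  induction τ using Multiset.induction_on with
  | empty => simp
  | cons φ τ ih =>
    have h1 := hν φ (Multiset.mem_cons_self _ _)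
    have h3 := (u.map_add_map (ν := {φ}) (by simpa)).1 (dual σ φ) (by simp)
    have h4 : φ ≠ dual σ φ := fun e => hi ((u.dual_eq_iff h1).1 e.symm)
    have h5 : ({φ, dual σ φ} : Finset F[X]) = S := Finset.eq_of_subset_of_card_le
      (by intro ψ hψ; rcases Finset.mem_insert.1 hψ with rfl | h
          exacts [(hS _).2 h1, Finset.mem_singleton.1 h ▸ (hS _).2 h3])
      (by rw [h2, Finset.card_pair h4])
    rw [Multiset.card_cons, succ_nsmul, ← ih fun ψ h => hν ψ (Multiset.mem_cons_of_mem h), ← h5,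
      Finset.insert_val_of_notMem (by simpa), Multiset.map_cons]
    simp only [← Multiset.singleton_add, Finset.singleton_val]
    abel

theorem Rat.data [Finite F] (hr : r.Prime) (h0 : (r : F) ≠ 0) (h : Rat r A) :
    ∃ (S : Finset F[X]) (k m : ℕ), (∀ φ, φ ∈ S ↔ RF r φ) ∧
      typ (toLin' A) = .replicate k (X - C 1) + m • S.val ∧ k + m * (r - 1) = Fintype.card ι ∧
      (m = 0 → A = 1) ∧ (r = 3 → (k = 0 ↔ A * A + A + 1 = 0)) := by
  obtain ⟨S, k, m, hS, e⟩ := h
  obtain ⟨S', hS', hc⟩ := exists_finset_RF hr h0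
  obtain rfl : S = S' := Finset.ext fun φ => (hS φ).trans (hS' φ).symm
  have hb := blocks_typ (toLin' A)
  refine ⟨S, k, m, hS, e, ?_, ?_, ?_⟩
  · rw [← sum_typ_toLin' A, e, Multiset.map_add, Multiset.sum_add, Multiset.map_nsmul,
      Multiset.sum_nsmul, sum_natDegree_RF hr fun φ h => (hS φ).1 h, ← hc,
      Multiset.map_replicate, natDegree_X_sub_C]
    simp
  · rintro rfl
    have := (hb.aeval_eq_zero_iff (Q := X - C 1)).2 (by
      rw [e]; simp +contextual [Multiset.mem_replicate])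
    rw [aeval_toLin', map_eq_zero_iff _ toLin'.injective] at this
    simpa [sub_eq_zero] using this
  · rintro rfl
    have h1 := hb.aeval_eq_zero_iff (Q := X * X + X + 1)
    rw [aeval_toLin', map_eq_zero_iff _ toLin'.injective] at h1
    simp only [map_add, map_mul, aeval_X, map_one] at h1
    rw [h1, e]
    refine ⟨fun hk φ hφ => ?_, fun h => ?_⟩
    · rw [hk, Multiset.replicate_zero, zero_add] at hφ
      obtain ⟨h2, h3, h4, h5⟩ := (hS φ).1 (Multiset.mem_of_mem_nsmul hφ)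
      rw [show (X ^ 3 - 1 : F[X]) = (X - C 1) * (X * X + X + 1) by simp; ring] at h4
      exact (h3.prime.dvd_or_dvd h4).resolve_left fun h6 => h5
        (eq_of_monic_of_associated h2 (monic_X_sub_C 1)
          (h3.associated_of_dvd (irreducible_X_sub_C 1) h6))
    · by_contra hk
      have := h _ (Multiset.mem_add.2 (.inl (Multiset.mem_replicate.2 ⟨hk, rfl⟩)))
      rw [dvd_iff_isRoot] at this
      exact h0 (by simp at this; push_cast; linear_combination this)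

theorem Rat.sim_five [Finite F] (h0 : ((5 : ℕ) : F) ≠ 0) (hn : Fintype.card ι = 4) (hA : Rat 5 A)
    (hB : Rat 5 B) (hA1 : A ≠ 1) (hB1 : B ≠ 1) : Sim (toLin' A) (toLin' B) := by
  obtain ⟨S, k, m, hS, e, h1, h2, -⟩ := hA.data Nat.prime_five h0
  obtain ⟨S', k', m', hS', e', h1', h2', -⟩ := hB.data Nat.prime_five h0
  obtain rfl : S = S' := Finset.ext fun φ => (hS φ).trans (hS' φ).symm
  have := mt h2 hA1
  have := mt h2' hB1
  rw [sim_iff_typ_eq, e, e', show k = k' by omega, show m = m' by omega]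

theorem Rat.sim_three [Finite F] (h0 : ((3 : ℕ) : F) ≠ 0) (hn : Fintype.card ι = 4) (hA : Rat 3 A)
    (hB : Rat 3 B) (hA1 : A ≠ 1) (hB1 : B ≠ 1) (h : A * A + A + 1 = 0 ↔ B * B + B + 1 = 0) :
    Sim (toLin' A) (toLin' B) := by
  obtain ⟨S, k, m, hS, e, h1, h2, h3⟩ := hA.data Nat.prime_three h0
  obtain ⟨S', k', m', hS', e', h1', h2', h3'⟩ := hB.data Nat.prime_three h0
  obtain rfl : S = S' := Finset.ext fun φ => (hS φ).trans (hS' φ).symm
  have := mt h2 hA1
  have := mt h2' hB1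
  have := (h3 rfl).trans (h.trans (h3' rfl).symm)
  rw [sim_iff_typ_eq, e, e', show k = k' by omega, show m = m' by omega]

theorem exists_golden {p : ℕ} [Fact p.Prime] (h2 : p ≠ 2) (h : orderOf (p : ZMod 5) ≠ 4) :
    ∃ k : ℤ, (p : ℤ) ∣ k ^ 2 + k - 1 := by
  have h5 : IsSquare ((5 : ℕ) : ZMod p) := by
    have h1 : IsSquare (p : ZMod 5) := by
      generalize (p : ZMod 5) = t at h
      revert t
      simp only [ne_eq, orderOf_eq_iff (show 0 < 4 by norm_num)]
      decide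
    haveI : Fact (Nat.Prime 5) := ⟨Nat.prime_five⟩
    exact (ZMod.exists_sq_eq_prime_iff_of_mod_four_eq_one (p := 5) (by norm_num) h2).1 h1
  obtain ⟨s, hs⟩ := h5
  have h2' : (2 : ZMod p) ≠ 0 := fun e => h2 ((Nat.prime_dvd_prime_iff_eq Fact.out Nat.prime_two).1
    ((ZMod.natCast_eq_zero_iff 2 p).1 e))
  obtain ⟨k, hk⟩ := ZMod.intCast_surjective ((s - 1) / 2)
  refine ⟨k, (ZMod.intCast_zmod_eq_zero_iff_dvd _ p).1 ?_⟩
  push_cast at hs ⊢
  rw [hk]; field_simp; linear_combination -hs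

theorem pow_five_of_quad {θ : F} (hθ : θ ^ 2 + θ - 1 = 0) (h : A * A = θ • A - 1) :
    A ^ 5 = 1 := by
  have h3 : A ^ 3 = (-θ) • A - θ • 1 := by
    rw [pow_succ, pow_two, h, sub_mul, smul_mul_assoc, h, one_mul]
    match_scalars
    · linear_combination hθ
    · ring
  rw [show 5 = 3 + 2 from rfl, pow_add, h3, pow_two, h]
  simp only [mul_sub, sub_mul, smul_mul_assoc, mul_smul_comm, h, mul_one, one_mul]
  match_scalars <;> grind

theorem conj_pow' (g x : GL ι F) (k : ℕ) : (g⁻¹ * x * g) ^ k = g⁻¹ * x ^ k * g := by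
  simpa using conj_pow (a := g⁻¹) (b := x) (i := k)

namespace St
variable {R : Subgroup (GL ι F)} (h : St R) {a b c d j x g : GL ι F}
include h

theorem exists_two (H : Q4 R a b c d) (hj : j ∈ R) {i : F} (e : j.1 = i • 1) (hi : i * i = -1)
    (hd : x.1.det = 1) {z : F} (hz : (x ^ 2).1 = z • 1) (hx : ¬ Sc x) :
    ∃ t : F, t ≠ 0 ∧ ∃ y, Good R y ∧ Sim (toLin' (t • y.1)) (toLin' x.1) ∧ t * t = z ∧
      (t ^ 4 = 1 ∨ x.1.trace = 2 * t) := by
  haveI := h.nonempty
  have h0 := ne_zero_of_eq_smul hz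
  rw [Units.val_pow_eq_pow_val] at hz
  obtain ⟨t, ht⟩ : ∃ t, t ^ 2 = z := by
    by_contra! h1
    obtain ⟨k, h2, -, h3⟩ := typ_of_kummer Nat.prime_two h1 (f := toLin' x.1)
      (by rw [← toLin'_pow', toLin'_eq_smul_one_iff, hz])
    obtain rfl : k = 2 := by simp [h.four] at h2; omega
    rw [LinearMap.det_toLin', hd] at h3
    rcases mul_self_eq_one_iff.1 (show z * z = 1 by linear_combination -h3) with rfl | rfl
    exacts [h1 1 (by simp), h1 i (by rw [pow_two, hi])]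
  rw [pow_two] at hz ht
  have key : ∀ t : F, t * t = z → t ≠ 0 ∧ (t⁻¹ • x.1) * (t⁻¹ • x.1) = 1 ∧
      (∀ w : F, t⁻¹ • x.1 ≠ w • 1) ∧ ∀ y : GL ι F, y.1 * y.1 = 1 → ¬ Sc y →
        y.1.trace = (t⁻¹ • x.1).trace → Sim (toLin' (t • y.1)) (toLin' x.1) := by
    intro t ht
    have t0 : t ≠ 0 := by rintro rfl; exact h0 (by simpa using ht.symm)
    have e1 : (t⁻¹ • x.1) * (t⁻¹ • x.1) = 1 := by
      rw [smul_mul_smul_comm, hz, smul_smul, ← ht]; field_simp; simp
    have e2 : ∀ w : F, t⁻¹ • x.1 ≠ w • 1 := fun w hw => hx ⟨t * w, by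
      rw [mul_smul, ← hw, smul_smul, mul_inv_cancel₀ t0, one_smul]⟩
    refine ⟨t0, e1, e2, fun y h1 h2 h3 => ?_⟩
    have := sim_smul (sim_of_invol4 h.two h.four h1 e1 (not_sc_iff.1 h2) e2 h3) t
    rwa [smul_smul, mul_inv_cancel₀ t0, one_smul] at this
  obtain ⟨y, hy, y1, y2, y3⟩ := h.exists_cz H hj e hi
  obtain ⟨t0, e1, e2, e3⟩ := key t ht
  rcases invol_cases h.two h.four e1 e2 with h1 | h1 | h1
  · refine ⟨t, t0, a, .of_mem H.ma, e3 a H.aa (h.not_sc_of_anti H.ba)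
      ((trace_eq_zero_of_anti h.two H.ba).trans h1.2.1.symm), ht, .inl ?_⟩
    have := h1.1
    rw [det_smul, hd, h.four, mul_one, inv_pow, inv_eq_one] at this
    exact this
  · refine ⟨t, t0, y, hy, e3 y y1 y3 (y2.trans h1.2.1.symm), ht, .inr ?_⟩
    have := h1.2.1
    rw [trace_smul, smul_eq_mul] at this
    field_simp at this
    linear_combination this
  · have h2 := h1.2.1
    rw [trace_smul, smul_eq_mul] at h2
    field_simp at h2
    obtain ⟨t0', -, -, e3⟩ := key (-t) (by rw [neg_mul_neg, ht])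
    refine ⟨-t, t0', y, hy, e3 y y1 y3 ?_, by rw [neg_mul_neg, ht], .inr (by linear_combination h2)⟩
    rw [y2, trace_smul, smul_eq_mul]
    field_simp
    linear_combination h2

end St

end Cfsg.Lib.C6
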